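import Mathlib

/-!
There is no strongly regular graph with parameters `(22, 9)`.
-/

set_option autoImplicit false

namespace Cfsg.Agent.GroupStructure3.TwentyTwo

open Finset SimpleGraph

variable {V : Type*} [Fintype V] [DecidableEq V] {Γ : SimpleGraph V} [DecidableRel Γ.Adj]

theorem zmod5_aux : (-22 - 22 : ZMod 5) ≠ 0 := by decide

theorem no_srg_four {l μ : ℕ} (h : Γ.IsSRGWith 22 9 l μ) (hl : l = 4) (hμ : μ = 3) : False := by
  subst hl hμ
  haveI : Fact (Nat.Prime 5) := ⟨Nat.prime_five⟩
  set A := Γ.adjMatrix (ZMod 5) with hA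
  set J : Matrix V V (ZMod 5) := Matrix.of 1 with hJ
  have hdeg : ∀ v, (Γ.neighborFinset v).card = 9 := fun v => by
    rw [SimpleGraph.card_neighborFinset_eq_degree]; exact h.regular v
  have hAJ : A * J = (9 : ZMod 5) • J := by
    ext v w
    rw [hA, adjMatrix_mul_apply]
    simp [hJ, hdeg]
  have hJA : J * A = (9 : ZMod 5) • J := by
    ext v w
    rw [hA, mul_adjMatrix_apply]
    simp [hJ, hdeg]
  have hJJ : J * J = (22 : ZMod 5) • J := by
    ext v w
    simp [hJ, Matrix.mul_apply, h.card]
  have hC : Γᶜ.adjMatrix (ZMod 5) = J - 1 - A := by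
    have h1 := Γ.one_add_adjMatrix_add_compl_adjMatrix_eq_of_one (α := ZMod 5)
    rw [compl_adjMatrix_eq_adjMatrix_compl] at h1
    rw [hJ, ← h1, hA]
    abel
  have hAA : A * A = (9 : ZMod 5) • 1 + (4 : ZMod 5) • A + (3 : ZMod 5) • (J - 1 - A) := by
    have h2 := h.matrix_eq (α := ZMod 5)
    rw [pow_two, hC, ← hA] at h2
    rw [h2, ← Nat.cast_smul_eq_nsmul (ZMod 5) 9, ← Nat.cast_smul_eq_nsmul (ZMod 5) 4,
      ← Nat.cast_smul_eq_nsmul (ZMod 5) 3]
    norm_num
  set M := (2 : ZMod 5) • A - 1 - J with hM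
  have hMM : M * M = 0 := by
    rw [hM]
    simp only [sub_mul, mul_sub, Matrix.smul_mul, Matrix.mul_smul, one_mul, mul_one, hAJ, hJA,
      hJJ, hAA, smul_smul, smul_add, smul_sub]
    ext v w
    simp only [Matrix.sub_apply, Matrix.add_apply, Matrix.smul_apply, smul_eq_mul,
      Matrix.zero_apply]
    ring_nf
    reduce_mod_char
  have h0 := (Matrix.isNilpotent_trace_of_isNilpotent (M := M) ⟨2, by rw [pow_two, hMM]⟩).eq_zero
  rw [hM, Matrix.trace_sub, Matrix.trace_sub, Matrix.trace_smul, hA, trace_adjMatrix, smul_zero,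
    Matrix.trace_one, h.card] at h0
  simp [hJ, Matrix.trace, h.card] at h0
  exact zmod5_aux h0

theorem no_srg {l μ : ℕ} (h : Γ.IsSRGWith 22 9 l μ) : False := by
  have hp := SimpleGraph.IsSRGWith.param_eq Γ h (by norm_num)
  have hcn : ∀ v w, (Γ.neighborFinset v ∩ Γ.neighborFinset w).card =
      Fintype.card (Γ.commonNeighbors v w) := by
    intro v w
    rw [← Set.toFinset_card]
    congr 1
    ext x
    rw [Set.mem_toFinset, Finset.mem_inter, mem_neighborFinset, mem_neighborFinset]
    exact Iff.rfl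
  have hdeg : ∀ v, (Γ.neighborFinset v).card = 9 := fun v => by
    rw [SimpleGraph.card_neighborFinset_eq_degree]; exact h.regular v
  obtain ⟨x⟩ : Nonempty V := Fintype.card_pos_iff.1 (by rw [h.card]; norm_num)
  obtain ⟨y, hy⟩ := Finset.card_pos.1 (show 0 < (Γ.neighborFinset x).card by rw [hdeg]; norm_num)
  rw [mem_neighborFinset] at hy
  have hl : l ≤ 8 := by
    rw [← h.of_adj x y hy, ← hcn]
    have : Γ.neighborFinset x ∩ Γ.neighborFinset y ⊆ (Γ.neighborFinset x).erase y := by
      intro z hz
      rw [Finset.mem_inter] at hz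
      refine Finset.mem_erase.2 ⟨?_, hz.1⟩
      rintro rfl
      simp at hz
    refine (Finset.card_le_card this).trans ?_
    rw [Finset.card_erase_of_mem (by simpa using hy), hdeg]
  rcases (show l = 0 ∧ μ = 6 ∨ l = 4 ∧ μ = 3 ∨ l = 8 ∧ μ = 0 by omega) with
    ⟨hl0, hμ⟩ | ⟨hl4, hμ⟩ | ⟨hl8, hμ⟩
  · -- triangle free
    have hd : Disjoint (Γ.neighborFinset x) (Γ.neighborFinset y) := by
      rw [Finset.disjoint_iff_inter_eq_empty, ← Finset.card_eq_zero, hcn, h.of_adj x y hy, hl0]
    obtain ⟨w, hw⟩ : ∃ w, w ∉ Γ.neighborFinset x ∪ Γ.neighborFinset y := by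
      by_contra hc
      push Not at hc
      have := Finset.card_le_card (fun v (_ : v ∈ Finset.univ) => hc v)
      rw [Finset.card_univ, h.card, Finset.card_union_of_disjoint hd, hdeg, hdeg] at this
      omega
    rw [Finset.mem_union, not_or, mem_neighborFinset, mem_neighborFinset] at hw
    have hwx : x ≠ w := fun e => hw.2 (e ▸ hy.symm)
    have hwy : y ≠ w := fun e => hw.1 (e ▸ hy)
    have h1 : (Γ.neighborFinset x ∩ Γ.neighborFinset w).card = 6 := by
      rw [hcn, h.of_not_adj hwx hw.1, hμ]
    have h2 : (Γ.neighborFinset y ∩ Γ.neighborFinset w).card = 6 := by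
      rw [hcn, h.of_not_adj hwy hw.2, hμ]
    have h3 : (Γ.neighborFinset x ∩ Γ.neighborFinset w ∪
        Γ.neighborFinset y ∩ Γ.neighborFinset w).card ≤ (Γ.neighborFinset w).card :=
      Finset.card_le_card (Finset.union_subset Finset.inter_subset_right Finset.inter_subset_right)
    rw [Finset.card_union_of_disjoint
      (hd.mono Finset.inter_subset_left Finset.inter_subset_left), h1, h2, hdeg] at h3
    omega
  · exact no_srg_four h hl4 hμ
  · -- cliques
    let N : V → Finset V := fun v => insert v (Γ.neighborFinset v)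
    have hN : ∀ v, (N v).card = 10 := fun v => by
      rw [Finset.card_insert_of_notMem (by simp), hdeg]
    have hdisj : ∀ v w, v ≠ w → ¬ Γ.Adj v w → Disjoint (N v) (N w) := by
      intro v w hne hadj
      have h0 : Γ.neighborFinset v ∩ Γ.neighborFinset w = ∅ := by
        rw [← Finset.card_eq_zero, hcn, h.of_not_adj hne hadj, hμ]
      rw [Finset.disjoint_left]
      intro z hz hz'
      simp only [N, Finset.mem_insert, mem_neighborFinset] at hz hz'
      rcases hz with rfl | hz <;> rcases hz' with e | hz'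
      · exact hne e
      · exact hadj hz'.symm
      · exact hadj (e ▸ hz)
      · have : z ∈ Γ.neighborFinset v ∩ Γ.neighborFinset w := by simp [hz, hz']
        rw [h0] at this
        simp at this
    obtain ⟨w, hw⟩ : ∃ w, w ∉ N x := by
      by_contra hc
      push Not at hc
      have := Finset.card_le_card (fun v (_ : v ∈ Finset.univ) => hc v)
      rw [Finset.card_univ, h.card, hN] at this
      omega
    obtain ⟨z, hz⟩ : ∃ z, z ∉ N x ∪ N w := by
      by_contra hc
      push Not at hc
      have := (Finset.card_le_card (fun v (_ : v ∈ Finset.univ) => hc v)).trans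
        (Finset.card_union_le _ _)
      rw [Finset.card_univ, h.card, hN, hN] at this
      omega
    simp only [N, Finset.mem_union, Finset.mem_insert, mem_neighborFinset, not_or] at hw hz
    have d1 := hdisj x w (Ne.symm hw.1) hw.2
    have d2 := hdisj x z (Ne.symm hz.1.1) hz.1.2
    have d3 := hdisj w z (Ne.symm hz.2.1) hz.2.2
    have := Finset.card_le_univ (N x ∪ N w ∪ N z)
    rw [Finset.card_union_of_disjoint (Finset.disjoint_union_left.2 ⟨d2, d3⟩),
      Finset.card_union_of_disjoint d1, hN, hN, hN, h.card] at this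
    omega

end Cfsg.Agent.GroupStructure3.TwentyTwo
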