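import Cfsg.Agent.GroupStructure3.TwentyTwo.Eleven
import Cfsg.Agent.GroupStructure3.TwentyTwo.Srg
import Mathlib.GroupTheory.IndexNormal

/-!
In a simple group with `22` Sylow `3`-subgroups and no subgroup of index `11`, these have order `3`.
Otherwise intersections of index `3` define a configuration of lines of four points, four through
each point, and the remaining pairs form a strongly regular graph with parameters `(22, 9)`.
-/

set_option autoImplicit false

open scoped Pointwise Classical

namespace Cfsg.Agent.GroupStructure3.TwentyTwo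

open Subgroup MulAction Finset

universe u

variable {G : Type u} [Group G] [Finite G] [Fact (Nat.Prime 3)] [Fintype (Sylow 3 G)]

/-- `v` lies in an orbit of length three of `u`. -/
def Near (u v : Sylow 3 G) : Prop := u ≠ v ∧ (orb u v).card = 3

/-- The Sylow subgroups containing the intersection of two given ones. -/
noncomputable def block (u v : Sylow 3 G) : Finset (Sylow 3 G) :=
  univ.filter fun w => (u : Subgroup G) ⊓ (v : Subgroup G) ≤ (w : Subgroup G)

theorem mem_block {u v w : Sylow 3 G} :
    w ∈ block u v ↔ (u : Subgroup G) ⊓ (v : Subgroup G) ≤ (w : Subgroup G) := by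
  simp [block]

theorem left_mem_block (u v : Sylow 3 G) : u ∈ block u v := mem_block.2 inf_le_left

theorem right_mem_block (u v : Sylow 3 G) : v ∈ block u v := mem_block.2 inf_le_right

theorem block_comm (u v : Sylow 3 G) : block u v = block v u := by
  ext w; rw [mem_block, mem_block, inf_comm]

theorem card_orb_comm (u v : Sylow 3 G) : (orb u v).card = (orb v u).card := by
  have h1 := card_orb_mul u v
  have h2 := card_orb_mul v u
  rw [inf_comm] at h2
  rw [u.card_eq_multiplicity, ← v.card_eq_multiplicity, ← h2] at h1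
  exact Nat.eq_of_mul_eq_mul_right Nat.card_pos h1

theorem near_comm {u v : Sylow 3 G} (h : Near u v) : Near v u :=
  ⟨h.1.symm, by rw [card_orb_comm]; exact h.2⟩

theorem mem_smul_iff {g x : G} {Q : Sylow 3 G} :
    x ∈ ((g • Q : Sylow 3 G) : Subgroup G) ↔ g⁻¹ * x * g ∈ (Q : Subgroup G) :=
  Transfer.Fusion.mem_smul_sylow_iff

theorem smul_block (g : G) (u v : Sylow 3 G) : g • block u v = block (g • u) (g • v) := by
  ext w
  rw [← inv_smul_mem_iff, mem_block, mem_block]
  constructor
  · intro h x hx
    have h1 : g⁻¹ * x * g ∈ (u : Subgroup G) ⊓ (v : Subgroup G) :=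
      ⟨mem_smul_iff.1 hx.1, mem_smul_iff.1 hx.2⟩
    have h2 := mem_smul_iff.1 (h h1)
    simpa [mul_assoc] using h2
  · intro h x hx
    rw [mem_smul_iff, inv_inv]
    refine h ⟨mem_smul_iff.2 ?_, mem_smul_iff.2 ?_⟩
    · rw [show g⁻¹ * (g * x * g⁻¹) * g = x by group]; exact hx.1
    · rw [show g⁻¹ * (g * x * g⁻¹) * g = x by group]; exact hx.2

theorem smul_near {u v : Sylow 3 G} (g : G) (h : Near u v) : Near (g • u) (g • v) := by
  refine ⟨fun e => h.1 (smul_left_cancel g e), ?_⟩
  have e : g • orb u v = orb (g • u) (g • v) := by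
    ext S
    rw [← inv_smul_mem_iff, mem_orb, mem_orb]
    constructor
    · rintro ⟨y, hy, hS⟩
      refine ⟨g * y * g⁻¹, mem_smul_iff.2 (by simpa [mul_assoc] using hy), ?_⟩
      rw [← mul_smul, inv_mul_cancel_right, mul_smul, hS, smul_inv_smul]
    · rintro ⟨y, hy, rfl⟩
      exact ⟨g⁻¹ * y * g, mem_smul_iff.1 hy, by rw [← mul_smul, ← mul_smul, mul_assoc]⟩
  rw [← e, Finset.card_smul_finset, h.2]

variable (hn : Fintype.card (Sylow 3 G) = 22)

include hn in
theorem card_inf {u v : Sylow 3 G} (h : u ≠ v) :
    3 * Nat.card ((u : Subgroup G) ⊓ (v : Subgroup G) : Subgroup G) ≤ Nat.card (u : Subgroup G) := by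
  rw [← card_orb_mul u v]
  refine Nat.mul_le_mul_right _ ?_
  rcases card_orb hn h.symm with e | e <;> omega

include hn in
/-- Two points of a block determine it. -/
theorem block_eq {u v a b : Sylow 3 G} (h : Near u v) (ha : a ∈ block u v) (hb : b ∈ block u v)
    (hab : a ≠ b) : Near a b ∧ block a b = block u v := by
  have hle : (u : Subgroup G) ⊓ (v : Subgroup G) ≤ (a : Subgroup G) ⊓ (b : Subgroup G) :=
    le_inf (mem_block.1 ha) (mem_block.1 hb)
  have h1 := card_inf hn hab
  have h2 := card_orb_mul u v
  rw [h.2, u.card_eq_multiplicity, ← a.card_eq_multiplicity] at h2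
  have h3 := Nat.le_of_dvd Nat.card_pos (card_dvd_of_le hle)
  have heq : (u : Subgroup G) ⊓ (v : Subgroup G) = (a : Subgroup G) ⊓ (b : Subgroup G) :=
    Subgroup.eq_of_le_of_card_ge hle (by omega)
  refine ⟨⟨hab, ?_⟩, ?_⟩
  · have h4 := card_orb_mul a b
    rw [← heq, ← h2] at h4
    exact Nat.eq_of_mul_eq_mul_right Nat.card_pos h4
  · ext w; rw [mem_block, mem_block, heq]

theorem smul_mem_block {u v w : Sylow 3 G} (h : Near u v) {y : G} (hy : y ∈ (u : Subgroup G))
    (hw : w ∈ block u v) : y • w ∈ block u v := by
  set D := (u : Subgroup G) ⊓ (v : Subgroup G) with hD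
  have hidx : (D.subgroupOf (u : Subgroup G)).index = 3 := by
    have h1 := card_orb_mul u v
    rw [h.2, ← hD] at h1
    have h2 := card_mul_index (D.subgroupOf (u : Subgroup G))
    rw [Nat.card_congr (subgroupOfEquivOfLe (inf_le_left : D ≤ u)).toEquiv, ← h1, mul_comm] at h2
    exact Nat.eq_of_mul_eq_mul_right Nat.card_pos h2
  have hmin : (Nat.card (u : Subgroup G)).minFac = 3 := by
    obtain ⟨k, hk⟩ := u.2.exists_card_eq
    have hk0 : k ≠ 0 := by
      rintro rfl
      have h1 := card_orb_mul u v
      rw [h.2, hk, pow_zero] at h1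
      exact absurd (Nat.eq_one_of_mul_eq_one_right h1) (by norm_num)
    rw [hk, Nat.pow_minFac hk0, Nat.prime_three.minFac_eq]
  haveI : (D.subgroupOf (u : Subgroup G)).Normal :=
    normal_of_index_eq_minFac_card (by rw [hidx, hmin])
  rw [mem_block, ← hD] at hw ⊢
  intro x hx
  rw [mem_smul_iff]
  have hxu : x ∈ (u : Subgroup G) := hx.1
  have h3 := (‹(D.subgroupOf (u : Subgroup G)).Normal›).conj_mem ⟨x, hxu⟩ hx ⟨y⁻¹, inv_mem hy⟩
  have h4 := hw h3
  simpa using h4

variable [IsSimpleGroup G]

include hn in
theorem block_card {u v : Sylow 3 G} (h : Near u v) (hq : 3 < Nat.card (u : Subgroup G)) :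
    ∃ j, (block u v).card = 1 + 3 * j ∧ 1 ≤ j ∧ j ≤ 6 := by
  have hfib : ∀ w ∈ (block u v).erase u,
      ((((block u v).erase u)).filter fun z => orb u z = orb u w).card = 3 := by
    intro w hw
    rw [Finset.mem_erase] at hw
    have hnear : Near u w := (block_eq hn h (left_mem_block u v) hw.2 (Ne.symm hw.1)).1
    have : (((block u v).erase u).filter fun z => orb u z = orb u w) = orb u w := by
      ext z
      rw [Finset.mem_filter, Finset.mem_erase]
      refine ⟨fun hz => hz.2 ▸ self_mem_orb u z, fun hz => ⟨⟨ne_of_mem_orb hw.1 hz, ?_⟩,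
        orb_eq_of_mem hz⟩⟩
      obtain ⟨y, hy, rfl⟩ := mem_orb.1 hz
      exact smul_mem_block h hy hw.2
    rw [this, hnear.2]
  have hsum := Finset.card_eq_sum_card_image (orb u) ((block u v).erase u)
  rw [Finset.sum_const_nat (m := 3) fun O hO => by
    obtain ⟨w, hw, rfl⟩ := Finset.mem_image.1 hO
    exact hfib w hw] at hsum
  rw [Finset.card_erase_of_mem (left_mem_block u v)] at hsum
  have hpos : 2 ≤ (block u v).card :=
    Finset.one_lt_card.2 ⟨u, left_mem_block u v, v, right_mem_block u v, h.1⟩
  have hlt : (block u v).card < 22 := by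
    rw [← hn]
    refine lt_of_le_of_ne (Finset.card_le_univ _) fun e => ?_
    have hall := (Finset.card_eq_iff_eq_univ _).1 e
    have hbot : (u : Subgroup G) ⊓ (v : Subgroup G) = ⊥ := by
      rw [eq_bot_iff]
      intro x hx
      refine mem_bot.2 (SylowTwoP.forall_mem_eq_one (p := 3) ?_ x fun Q => ?_)
      · rw [Nat.card_eq_fintype_card, hn]; norm_num
      · exact mem_block.1 (hall ▸ Finset.mem_univ Q) hx
    have h1 := card_orb_mul u v
    rw [hbot, h.2, Subgroup.card_bot] at h1
    omega
  refine ⟨(((block u v).erase u).image (orb u)).card, by omega, by omega, by omega⟩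

include hn in
theorem card_sylow_three (hG : ¬ IsMulCommutative G) (h11 : ∀ H : Subgroup G, H.index ≠ 11)
    (P : Sylow 3 G) : Nat.card (P : Subgroup G) = 3 := by
  by_contra hP
  have hq : ∀ u : Sylow 3 G, 3 < Nat.card (u : Subgroup G) := by
    intro u
    rw [u.card_eq_multiplicity, ← P.card_eq_multiplicity]
    obtain ⟨v, hv⟩ := Fintype.exists_ne_of_one_lt_card (by omega) P
    have h1 := card_inf hn hv.symm
    have h2 : 0 < Nat.card ((P : Subgroup G) ⊓ (v : Subgroup G) : Subgroup G) := Nat.card_pos
    omega
  -- near and far points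
  let nb : Sylow 3 G → Finset (Sylow 3 G) := fun x => univ.filter fun w => Near x w
  let fr : Sylow 3 G → Finset (Sylow 3 G) :=
    fun x => univ.filter fun w => x ≠ w ∧ ¬ Near x w
  have hmemfr : ∀ x w, w ∈ fr x ↔ x ≠ w ∧ (orb x w).card = 9 := by
    intro x w
    simp only [fr, Finset.mem_filter, Finset.mem_univ, true_and, Near, not_and]
    refine and_congr_right fun hne => ⟨fun h => (card_orb hn hne.symm).resolve_left (h hne),
      fun h _ => by omega⟩
  have hsplit : ∀ x, (nb x).card + (fr x).card = 21 := by
    intro x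
    have : nb x ∪ fr x = univ.erase x := by
      ext w
      simp only [nb, fr, Finset.mem_union, Finset.mem_filter, Finset.mem_univ, true_and,
        Finset.mem_erase, and_true]
      constructor
      · rintro (h | h)
        exacts [h.1.symm, h.1.symm]
      · intro h
        by_cases hN : Near x w
        exacts [Or.inl hN, Or.inr ⟨Ne.symm h, hN⟩]
    rw [← Finset.card_union_of_disjoint, this, Finset.card_erase_of_mem (mem_univ _),
      Finset.card_univ, hn]
    rw [Finset.disjoint_left]
    intro w hw hw'
    exact (Finset.mem_filter.1 hw').2.2 (Finset.mem_filter.1 hw).2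
  have hfr9 : ∀ x, 9 ∣ (fr x).card := by
    intro x
    have hsum := Finset.card_eq_sum_card_image (orb x) (fr x)
    rw [Finset.sum_const_nat (m := 9) fun O hO => by
      obtain ⟨w, hw, rfl⟩ := Finset.mem_image.1 hO
      rw [hmemfr] at hw
      have : ((fr x).filter fun z => orb x z = orb x w) = orb x w := by
        ext z
        rw [Finset.mem_filter, hmemfr]
        exact ⟨fun hz => hz.2 ▸ self_mem_orb x z,
          fun hz => ⟨⟨(ne_of_mem_orb hw.1.symm hz).symm, by rw [orb_eq_of_mem hz]; exact hw.2⟩,
            orb_eq_of_mem hz⟩⟩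
      rw [this, hw.2]] at hsum
    exact Dvd.intro_left _ hsum.symm
  -- one class of blocks
  have hclass : ∀ a b : Sylow 3 G, Near a b → ∀ x : Sylow 3 G,
      (block a b).card = 4 ∧
        4 ≤ (univ.filter fun S : Finset (Sylow 3 G) =>
          x ∈ S ∧ ∃ g : G, g • block a b = S).card := by
    intro a b hab x
    set B := univ.filter fun S : Finset (Sylow 3 G) => ∃ g : G, g • block a b = S with hB
    set f := (block a b).card with hf
    set r := (B.filter fun S => x ∈ S).card with hr
    have hBidx : B.card = (stabilizer G (block a b)).index := by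
      rw [index_stabilizer, ← Set.ncard_coe_finset]
      congr 1
      ext S
      simp [hB, mem_orbit_iff]
    have hB11 : B.card ≠ 11 := hBidx ▸ h11 _
    have hconst : ∀ w, (B.filter fun S => w ∈ S).card = r := by
      intro w
      obtain ⟨g, hg⟩ := exists_smul_eq G x w
      refine (Finset.card_bij (fun S _ => g • S) ?_ (fun S _ T _ e => smul_left_cancel g e) ?_).symm
      · intro S hS
        simp only [hB, Finset.mem_filter, Finset.mem_univ, true_and] at hS ⊢
        obtain ⟨⟨k, rfl⟩, hx⟩ := hS
        exact ⟨⟨g * k, mul_smul _ _ _⟩, hg ▸ Finset.smul_mem_smul_finset hx⟩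
      · intro S hS
        simp only [hB, Finset.mem_filter, Finset.mem_univ, true_and] at hS ⊢
        obtain ⟨⟨k, rfl⟩, hw⟩ := hS
        refine ⟨g⁻¹ • k • block a b, ⟨⟨g⁻¹ * k, mul_smul _ _ _⟩, ?_⟩, smul_inv_smul _ _⟩
        rw [← inv_smul_mem_iff, inv_inv, hg]
        exact hw
    have hdc : B.card * f = 22 * r := by
      have h1 := Finset.sum_card_bipartiteAbove_eq_sum_card_bipartiteBelow
        (r := fun (S : Finset (Sylow 3 G)) (w : Sylow 3 G) => w ∈ S) (s := B) (t := univ)
      rw [Finset.sum_const_nat (m := f) (fun S hS => ?_),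
        Finset.sum_const_nat (m := r) (fun w _ => ?_), Finset.card_univ, hn] at h1
      · exact h1
      · exact hconst w
      · simp only [hB, Finset.mem_filter, Finset.mem_univ, true_and] at hS
        obtain ⟨k, rfl⟩ := hS
        rw [Finset.bipartiteAbove, Finset.filter_univ_mem, Finset.card_smul_finset]
    have hr1 : 1 ≤ r := by
      rw [← hconst a]
      refine Finset.card_pos.2 ⟨block a b, ?_⟩
      simp only [hB, Finset.mem_filter, Finset.mem_univ, true_and]
      exact ⟨⟨1, one_smul _ _⟩, left_mem_block a b⟩
    have hpack : r * (f - 1) ≤ 21 := by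
      have hmem : ∀ S ∈ B.filter (fun S => x ∈ S), ∀ w ∈ S, w ≠ x → block x w = S := by
        intro S hS w hw hwx
        simp only [hB, Finset.mem_filter, Finset.mem_univ, true_and] at hS
        obtain ⟨⟨k, rfl⟩, hx⟩ := hS
        rw [smul_block] at hx hw ⊢
        exact (block_eq hn (smul_near k hab) hx hw hwx.symm).2
      have h2 : ((B.filter fun S => x ∈ S).biUnion fun S => S.erase x).card = r * (f - 1) := by
        rw [Finset.card_biUnion, Finset.sum_const_nat (m := f - 1)]
        · intro S hS
          rw [Finset.card_erase_of_mem (Finset.mem_filter.1 hS).2]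
          simp only [hB, Finset.mem_filter, Finset.mem_univ, true_and] at hS
          obtain ⟨⟨k, rfl⟩, -⟩ := hS
          rw [Finset.card_smul_finset]
        · intro S hS T hT hST
          rw [Function.onFun, Finset.disjoint_left]
          intro w hw hw'
          rw [Finset.mem_erase] at hw hw'
          exact hST ((hmem S hS w hw.2 hw.1).symm.trans (hmem T hT w hw'.2 hw.1))
      rw [← h2]
      refine le_trans (Finset.card_le_card (t := univ.erase x) ?_) ?_
      · intro w hw
        obtain ⟨S, -, hw⟩ := Finset.mem_biUnion.1 hw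
        exact Finset.mem_erase.2 ⟨(Finset.mem_erase.1 hw).1, mem_univ _⟩
      · rw [Finset.card_erase_of_mem (mem_univ _), Finset.card_univ, hn]
    obtain ⟨j, hj, hj1, hj6⟩ := block_card hn hab (hq a)
    rw [← hf] at hj
    have h4r : (univ.filter fun S : Finset (Sylow 3 G) =>
        x ∈ S ∧ ∃ g : G, g • block a b = S).card = r := by
      rw [hr, hB, Finset.filter_filter]
      exact congrArg Finset.card (Finset.filter_congr fun S _ => and_comm)
    rw [h4r]
    rw [hj] at hdc hpack ⊢
    have hr7 : r ≤ 7 := by
      have : r * 3 ≤ r * (1 + 3 * j - 1) := Nat.mul_le_mul_left r (by omega)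
      omega
    interval_cases j <;> interval_cases r <;> omega
  -- the points near `x`
  have hnb : ∀ x a b : Sylow 3 G, Near a b →
      12 ≤ ((nb x).filter fun w => ∃ g : G, g • block a b = block x w).card := by
    intro x a b hab
    obtain ⟨hf, hr⟩ := hclass a b hab x
    set R := univ.filter fun S : Finset (Sylow 3 G) => x ∈ S ∧ ∃ g : G, g • block a b = S with hR
    have hmem : ∀ S ∈ R, ∀ w ∈ S, w ≠ x → Near x w ∧ block x w = S := by
      intro S hS w hw hwx
      simp only [hR, Finset.mem_filter, Finset.mem_univ, true_and] at hS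
      obtain ⟨hx, k, rfl⟩ := hS
      rw [smul_block] at hx hw ⊢
      exact block_eq hn (smul_near k hab) hx hw hwx.symm
    have h2 : (R.biUnion fun S => S.erase x).card = R.card * 3 := by
      rw [Finset.card_biUnion, Finset.sum_const_nat (m := 3)]
      · intro S hS
        simp only [hR, Finset.mem_filter, Finset.mem_univ, true_and] at hS
        obtain ⟨hx, k, rfl⟩ := hS
        rw [Finset.card_erase_of_mem hx, Finset.card_smul_finset, hf]
      · intro S hS T hT hST
        rw [Function.onFun, Finset.disjoint_left]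
        intro w hw hw'
        rw [Finset.mem_erase] at hw hw'
        exact hST ((hmem S hS w hw.2 hw.1).2.symm.trans (hmem T hT w hw'.2 hw.1).2)
    refine le_trans (by omega : 12 ≤ R.card * 3) (h2 ▸ Finset.card_le_card fun w hw => ?_)
    obtain ⟨S, hS, hw⟩ := Finset.mem_biUnion.1 hw
    rw [Finset.mem_erase] at hw
    obtain ⟨hN, hB⟩ := hmem S hS w hw.2 hw.1
    simp only [hR, Finset.mem_filter, Finset.mem_univ, true_and] at hS
    obtain ⟨-, g, hg⟩ := hS
    simp only [nb, Finset.mem_filter, Finset.mem_univ, true_and]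
    exact ⟨hN, g, by rw [hg, hB]⟩
  have htrans : ∀ a b c d : Sylow 3 G, Near a b → Near c d → ∃ g : G, g • block a b = block c d := by
    intro a b c d hab hcd
    by_contra hc
    have h1 := hnb c a b hab
    have h2 := hnb c c d hcd
    have hdis : Disjoint ((nb c).filter fun w => ∃ g : G, g • block a b = block c w)
        ((nb c).filter fun w => ∃ g : G, g • block c d = block c w) := by
      rw [Finset.disjoint_left]
      intro w hw hw'
      obtain ⟨-, g, hg⟩ := Finset.mem_filter.1 hw
      obtain ⟨-, k, hk⟩ := Finset.mem_filter.1 hw'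
      exact hc ⟨k⁻¹ * g, by rw [mul_smul, hg, ← hk, inv_smul_smul]⟩
    have h3 := Finset.card_le_card (Finset.union_subset
      (Finset.filter_subset (fun w => ∃ g : G, g • block a b = block c w) (nb c))
      (Finset.filter_subset (fun w => ∃ g : G, g • block c d = block c w) (nb c)))
    rw [Finset.card_union_of_disjoint hdis] at h3
    have := hsplit c
    omega
  have hfrcard : ∀ x, (fr x).card = 9 := by
    intro x
    have hex : ∃ a b : Sylow 3 G, Near a b := by
      by_contra hc
      push Not at hc
      have hnb0 : (nb x).card = 0 := Finset.card_eq_zero.2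
        (Finset.filter_eq_empty_iff.2 fun {w} _ => hc x w)
      have := hsplit x
      have := hfr9 x
      omega
    obtain ⟨a, b, hab⟩ := hex
    have h1 := (hnb x a b hab).trans (Finset.card_filter_le _ _)
    have h2 := hsplit x
    have h3 := hfr9 x
    have h4 : (fr x).card ≠ 0 := by
      intro h0
      -- all blocks through `x` would then number seven, but each class has an even number
      obtain ⟨hf, -⟩ := hclass a b hab x
      set B := univ.filter fun S : Finset (Sylow 3 G) => ∃ g : G, g • block a b = S with hB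
      have hdc : B.card * 4 = 22 * 7 := by
        have h1 := Finset.sum_card_bipartiteAbove_eq_sum_card_bipartiteBelow
          (r := fun (S : Finset (Sylow 3 G)) (w : Sylow 3 G) => w ∈ S) (s := B) (t := univ)
        rw [Finset.sum_const_nat (m := 4) (fun S hS => ?_),
          Finset.sum_const_nat (m := 7) (fun w _ => ?_), Finset.card_univ, hn] at h1
        · exact h1
        · have hwfr : (nb w).card = 21 := by
            obtain ⟨g, hg⟩ := exists_smul_eq G x w
            have hb : (nb x).card ≤ (nb w).card := by
              refine Finset.card_le_card_of_injOn (fun z => g • z) (fun z hz => ?_)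
                (fun z _ z' _ e => smul_left_cancel g e)
              simp only [nb, Finset.coe_filter, Finset.mem_univ, true_and, Set.mem_setOf_eq] at hz ⊢
              exact hg ▸ smul_near g hz
            have := hsplit w
            omega
          have h3 : ((nb w).card) = (B.filter fun S => w ∈ S).card * 3 := by
            rw [Finset.card_eq_sum_card_image (fun z => block w z) (nb w)]
            have himg : (nb w).image (fun z => block w z) = B.filter fun S => w ∈ S := by
              ext S
              simp only [hB, nb, Finset.mem_image, Finset.mem_filter, Finset.mem_univ, true_and]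
              constructor
              · rintro ⟨z, hz, rfl⟩
                exact ⟨htrans a b w z hab hz, left_mem_block w z⟩
              · rintro ⟨⟨g, rfl⟩, hw⟩
                rw [smul_block] at hw ⊢
                obtain ⟨z, hz, hzw⟩ := Finset.exists_mem_ne
                  (Finset.one_lt_card.2 ⟨g • a, left_mem_block _ _, g • b, right_mem_block _ _,
                    fun e => hab.1 (smul_left_cancel g e)⟩) w
                exact ⟨z, block_eq hn (smul_near g hab) hw hz hzw.symm⟩
            rw [himg, Finset.sum_const_nat (m := 3)]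
            intro S hS
            simp only [hB, Finset.mem_filter, Finset.mem_univ, true_and] at hS
            obtain ⟨⟨g, rfl⟩, hw⟩ := hS
            have : ((nb w).filter fun z => block w z = g • block a b) =
                (g • block a b).erase w := by
              ext z
              simp only [nb, Finset.mem_filter, Finset.mem_univ, true_and, Finset.mem_erase]
              refine ⟨fun h => ⟨h.1.1.symm, h.2 ▸ right_mem_block w z⟩, fun h => ?_⟩
              rw [smul_block] at hw h ⊢
              exact block_eq hn (smul_near g hab) hw h.2 h.1.symm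
            rw [this, Finset.card_erase_of_mem hw, Finset.card_smul_finset, hf]
          rw [Finset.bipartiteBelow]
          omega
        · simp only [hB, Finset.mem_filter, Finset.mem_univ, true_and] at hS
          obtain ⟨k, rfl⟩ := hS
          rw [Finset.bipartiteAbove, Finset.filter_univ_mem, Finset.card_smul_finset, hf]
      omega
    omega
  have horbfr : ∀ x w, w ∈ fr x → orb x w = fr x := by
    intro x w hw
    rw [hmemfr] at hw
    refine Finset.eq_of_subset_of_card_le (fun z hz => ?_) (by rw [hfrcard, hw.2])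
    rw [hmemfr, orb_eq_of_mem hz]
    exact ⟨(ne_of_mem_orb hw.1.symm hz).symm, hw.2⟩
  -- the graph
  let Γ : SimpleGraph (Sylow 3 G) :=
    { Adj := fun u v => v ∈ fr u
      symm := ⟨fun u v h => by
        rw [hmemfr] at h ⊢
        exact ⟨h.1.symm, by rw [card_orb_comm]; exact h.2⟩⟩
      loopless := ⟨fun u h => ((hmemfr u u).1 h).1 rfl⟩ }
  have hfrsmul : ∀ (g : G) u v, v ∈ fr u → g • v ∈ fr (g • u) := by
    intro g u v h
    simp only [fr, Finset.mem_filter, Finset.mem_univ, true_and] at h ⊢
    exact ⟨fun e => h.1 (smul_left_cancel g e),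
      fun hN => h.2 (by simpa using smul_near g⁻¹ hN)⟩
  have hcomm : ∀ (g : G) u v u' v', g • u = u' → g • v = v' →
      (fr u ∩ fr v).card ≤ (fr u' ∩ fr v').card := by
    rintro g u v _ _ rfl rfl
    refine Finset.card_le_card_of_injOn (fun z => g • z) (fun z hz => ?_)
      (fun z _ z' _ e => smul_left_cancel g e)
    simp only [Finset.coe_inter, Set.mem_inter_iff, Finset.mem_coe] at hz ⊢
    exact ⟨hfrsmul g u z hz.1, hfrsmul g v z hz.2⟩
  have hinv : ∀ (g : G) u v u' v', g • u = u' → g • v = v' →
      (fr u ∩ fr v).card = (fr u' ∩ fr v').card := fun g u v u' v' h1 h2 =>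
    le_antisymm (hcomm g u v u' v' h1 h2)
      (hcomm g⁻¹ u' v' u v (by rw [← h1, inv_smul_smul]) (by rw [← h2, inv_smul_smul]))
  have hadj : ∀ u v u' v', v ∈ fr u → v' ∈ fr u' →
      (fr u ∩ fr v).card = (fr u' ∩ fr v').card := by
    intro u v u' v' h h'
    obtain ⟨g, hg⟩ := exists_smul_eq G u u'
    have hgv : g • v ∈ fr u' := hg ▸ hfrsmul g u v h
    rw [← horbfr u' (g • v) hgv] at h'
    obtain ⟨y, hy, hyv⟩ := mem_orb.1 h'
    exact hinv (y * g) u v u' v' (by rw [mul_smul, hg, smul_self_of_mem hy])
      (by rw [mul_smul, hyv])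
  have hnadj : ∀ u v u' v' : Sylow 3 G, Near u v → Near u' v' →
      (fr u ∩ fr v).card = (fr u' ∩ fr v').card := by
    intro u v u' v' h h'
    obtain ⟨g, hg⟩ := htrans u v u' v' h h'
    rw [smul_block] at hg
    set S := block u' v' with hS
    have hmove : ∀ a ∈ S, ∀ b ∈ S, ∃ k : G, k • S = S ∧ k • a = b := by
      intro a ha b hb
      obtain ⟨z, hz, hza, hzb⟩ : ∃ z ∈ S, z ≠ a ∧ z ≠ b := by
        have h4 := (hclass u' v' h' u').1
        rw [← hS] at h4
        have : 0 < (S \ {a, b}).card := by
          have := Finset.le_card_sdiff {a, b} S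
          have h2 : ({a, b} : Finset (Sylow 3 G)).card ≤ 2 := Finset.card_le_two
          omega
        obtain ⟨z, hz⟩ := Finset.card_pos.1 this
        simp only [Finset.mem_sdiff, Finset.mem_insert, Finset.mem_singleton, not_or] at hz
        exact ⟨z, hz.1, hz.2.1, hz.2.2⟩
      have hza' := block_eq hn h' hz ha hza
      have horb : orb z a = S.erase z := by
        refine Finset.eq_of_subset_of_card_le (fun w hw => ?_) ?_
        · rw [Finset.mem_erase]
          refine ⟨ne_of_mem_orb hza.symm hw, ?_⟩
          obtain ⟨y, hy, rfl⟩ := mem_orb.1 hw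
          rw [hS, ← hza'.2]
          exact smul_mem_block hza'.1 hy (right_mem_block z a)
        · rw [Finset.card_erase_of_mem hz, (hclass u' v' h' u').1, hza'.1.2]
      obtain ⟨k, hk, hkb⟩ := mem_orb.1 (horb.symm ▸ Finset.mem_erase.2 ⟨hzb.symm, hb⟩ : b ∈ orb z a)
      refine ⟨k, ?_, hkb⟩
      refine Finset.eq_of_subset_of_card_le (fun w hw => ?_) (Finset.card_smul_finset _ _).ge
      obtain ⟨w', hw', rfl⟩ := Finset.mem_smul_finset.1 hw
      rw [hS, ← hza'.2] at hw' ⊢
      exact smul_mem_block hza'.1 hk hw'
    obtain ⟨k, hkS, hk⟩ := hmove (g • u) (hg ▸ left_mem_block _ _) u' (left_mem_block u' v')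
    have hkv : k • g • v ∈ S := by
      rw [← hkS]
      exact Finset.smul_mem_smul_finset (hg ▸ right_mem_block _ _)
    have hne : k • g • v ≠ u' := by
      rw [← hk]
      exact fun e => h.1 (smul_left_cancel g (smul_left_cancel k e)).symm
    have hnear' := block_eq hn h' (left_mem_block u' v') hkv hne.symm
    have horb : orb u' (k • g • v) = S.erase u' := by
      refine Finset.eq_of_subset_of_card_le (fun w hw => ?_) ?_
      · rw [Finset.mem_erase]
        refine ⟨ne_of_mem_orb hne hw, ?_⟩
        obtain ⟨y, hy, rfl⟩ := mem_orb.1 hw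
        exact smul_mem_block h' hy hkv
      · rw [Finset.card_erase_of_mem (left_mem_block u' v'), (hclass u' v' h' u').1, hnear'.1.2]
    obtain ⟨y, hy, hyv⟩ := mem_orb.1 (horb.symm ▸
      Finset.mem_erase.2 ⟨h'.1.symm, right_mem_block u' v'⟩ : v' ∈ orb u' (k • g • v))
    exact hinv (y * k * g) u v u' v'
      (by rw [mul_smul, mul_smul, hk, smul_self_of_mem hy])
      (by rw [mul_smul, mul_smul, hyv])
  obtain ⟨x₀⟩ : Nonempty (Sylow 3 G) := inferInstance
  obtain ⟨y₀, hy₀⟩ := Finset.card_pos.1 (show 0 < (fr x₀).card by rw [hfrcard]; norm_num)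
  obtain ⟨z₀, hz₀⟩ := Finset.card_pos.1 (show 0 < (nb x₀).card by
    have := hsplit x₀; rw [hfrcard] at this; omega)
  have hnbr : ∀ u, Γ.neighborFinset u = fr u := fun u => by
    ext v; rw [SimpleGraph.mem_neighborFinset]
  have hcn : ∀ u v, Fintype.card (Γ.commonNeighbors u v) = (fr u ∩ fr v).card := by
    intro u v
    rw [← Set.toFinset_card]
    congr 1
    ext w
    rw [Set.mem_toFinset, Finset.mem_inter]
    exact Iff.rfl
  refine no_srg (Γ := Γ) (l := (fr x₀ ∩ fr y₀).card) (μ := (fr x₀ ∩ fr z₀).card)
    ⟨hn, fun u => ?_, fun u v huv => ?_, fun u v hne huv => ?_⟩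
  · rw [← SimpleGraph.card_neighborFinset_eq_degree, hnbr, hfrcard]
  · rw [hcn]; exact hadj u v x₀ y₀ huv hy₀
  · rw [hcn]
    refine hnadj u v x₀ z₀ ?_ (Finset.mem_filter.1 hz₀).2
    by_contra hN
    exact huv (Finset.mem_filter.2 ⟨mem_univ _, hne, hN⟩)

end Cfsg.Agent.GroupStructure3.TwentyTwo
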