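import Cfsg.Agent.GroupStructure3.TwentyTwo.Perm
import Cfsg.Agent.GroupStructure3.SylowTwoP
import Cfsg.Agent.Lib.SmallSimple.Basic

/-!
A simple group with `22` Sylow `3`-subgroups: the Sylow `11`-normaliser is dihedral of order `22`,
so the Sylow `3`-normaliser has order congruent to `1` modulo `11`, and there is no action of
degree `11`.
-/

set_option autoImplicit false

open scoped Pointwise Classical

namespace Cfsg.Agent.GroupStructure3.TwentyTwo

open Subgroup MulAction Finset

universe u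

variable {G : Type u} [Group G]

section Orbits

variable [Finite G] [Fact (Nat.Prime 3)]

theorem inf_stabilizer (Q R : Sylow 3 G) :
    (Q : Subgroup G) ⊓ stabilizer G R = (Q : Subgroup G) ⊓ (R : Subgroup G) := by
  rw [Sylow.stabilizer_eq_normalizer]
  exact Q.2.inf_normalizer_sylow R

theorem smul_self_of_mem {Q : Sylow 3 G} {y : G} (hy : y ∈ (Q : Subgroup G)) : y • Q = Q :=
  Sylow.smul_eq_iff_mem_normalizer.2 (le_normalizer hy)

/-- The orbit of the Sylow subgroup `R` under `Q`. -/
noncomputable def orb [Fintype (Sylow 3 G)] (Q R : Sylow 3 G) : Finset (Sylow 3 G) := by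
  classical
  exact Finset.univ.filter fun S => ∃ y ∈ (Q : Subgroup G), y • R = S

variable [Fintype (Sylow 3 G)]

theorem mem_orb {Q R S : Sylow 3 G} :
    S ∈ orb Q R ↔ ∃ y ∈ (Q : Subgroup G), y • R = S := by
  classical
  simp [orb]

theorem self_mem_orb (Q R : Sylow 3 G) : R ∈ orb Q R := mem_orb.2 ⟨1, one_mem _, one_smul _ _⟩

theorem orb_eq_of_mem {Q R S : Sylow 3 G} (h : S ∈ orb Q R) : orb Q S = orb Q R := by
  obtain ⟨y, hy, rfl⟩ := mem_orb.1 h
  ext T
  simp only [mem_orb]
  constructor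
  · rintro ⟨z, hz, rfl⟩
    exact ⟨z * y, mul_mem hz hy, mul_smul _ _ _⟩
  · rintro ⟨z, hz, rfl⟩
    exact ⟨z * y⁻¹, mul_mem hz (inv_mem hy), by rw [mul_smul, inv_smul_smul]⟩

theorem ne_of_mem_orb {Q R S : Sylow 3 G} (hR : R ≠ Q) (h : S ∈ orb Q R) : S ≠ Q := by
  obtain ⟨y, hy, rfl⟩ := mem_orb.1 h
  intro e
  exact hR (smul_left_cancel y (e.trans (smul_self_of_mem hy).symm))

theorem card_orb_mul (Q R : Sylow 3 G) :
    (orb Q R).card * Nat.card ((Q : Subgroup G) ⊓ (R : Subgroup G) : Subgroup G) =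
      Nat.card (Q : Subgroup G) := by
  classical
  have h1 : (orb Q R : Set (Sylow 3 G)) = orbit (Q : Subgroup G) R := by
    ext S
    rw [Finset.mem_coe, mem_orb]
    constructor
    · rintro ⟨y, hy, rfl⟩; exact ⟨⟨y, hy⟩, rfl⟩
    · rintro ⟨⟨y, hy⟩, rfl⟩; exact ⟨y, hy, rfl⟩
  rw [← Set.ncard_coe_finset, h1, ← index_stabilizer, mul_comm]
  have h2 : stabilizer (Q : Subgroup G) R =
      (((Q : Subgroup G) ⊓ (R : Subgroup G)).subgroupOf (Q : Subgroup G)) := by
    rw [← inf_stabilizer, inf_subgroupOf_left]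
    rfl
  rw [h2, ← Nat.card_congr (subgroupOfEquivOfLe (inf_le_left : _ ⊓ _ ≤ (Q : Subgroup G))).toEquiv]
  exact card_mul_index _

theorem card_orb {Q R : Sylow 3 G} (hn : Fintype.card (Sylow 3 G) = 22) (hR : R ≠ Q) :
    (orb Q R).card = 3 ∨ (orb Q R).card = 9 := by
  classical
  obtain ⟨k, hk⟩ := Q.2.exists_card_eq
  obtain ⟨j, -, hj⟩ := (Nat.dvd_prime_pow (Fact.out : Nat.Prime 3)).1
    (hk ▸ Dvd.intro _ (card_orb_mul Q R))
  have hle : (orb Q R).card ≤ 21 := by
    have : orb Q R ⊆ Finset.univ.erase Q := fun S hS =>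
      Finset.mem_erase.2 ⟨ne_of_mem_orb hR hS, Finset.mem_univ _⟩
    have := Finset.card_le_card this
    rw [Finset.card_erase_of_mem (Finset.mem_univ _), Finset.card_univ, hn] at this
    omega
  have hne : (orb Q R).card ≠ 1 := by
    intro h
    refine hR (Sylow.ext ?_)
    have h1 := card_orb_mul Q R
    rw [h, one_mul] at h1
    have h2 : (Q : Subgroup G) ⊓ (R : Subgroup G) = (Q : Subgroup G) :=
      Subgroup.eq_of_le_of_card_ge inf_le_left h1.ge
    exact Q.3 R.2 (inf_eq_left.1 h2)
  rw [hj] at hle hne ⊢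
  rcases j with _ | _ | _ | j
  · exact absurd rfl hne
  · exact Or.inl rfl
  · exact Or.inr rfl
  · exfalso
    have h27 : 3 ^ 3 ≤ 3 ^ (j + 1 + 1 + 1) := Nat.pow_le_pow_right (by norm_num) (by omega)
    omega

theorem smul_orb {Q R : Sylow 3 G} {g : G} (hg : g • Q = Q) :
    g • orb Q R = orb Q (g • R) := by
  classical
  have hn : ∀ y, y ∈ (Q : Subgroup G) ↔ g * y * g⁻¹ ∈ (Q : Subgroup G) :=
    Subgroup.mem_normalizer_iff.1 (Sylow.smul_eq_iff_mem_normalizer.1 hg)
  ext S
  rw [Finset.mem_smul_finset]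
  simp only [mem_orb]
  constructor
  · rintro ⟨T, ⟨y, hy, rfl⟩, rfl⟩
    refine ⟨g * y * g⁻¹, (hn y).1 hy, ?_⟩
    rw [← mul_smul, ← mul_smul, inv_mul_cancel_right]
  · rintro ⟨y, hy, rfl⟩
    refine ⟨(g⁻¹ * y * g) • R, ⟨g⁻¹ * y * g, (hn _).2 (by simpa [mul_assoc] using hy), rfl⟩, ?_⟩
    rw [← mul_smul, ← mul_smul, ← mul_assoc, ← mul_assoc, mul_inv_cancel, one_mul]

end Orbits

section Free

variable {β : Type*} [MulAction G β]

/-- In the orbit of `r`, a proper automiser of `⟨r⟩` fixes at most one point. -/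
theorem unique_fixed {r u : G} (hr : (orderOf r).Prime) (hu : u ∉ centralizer {r})
    (hN : ∀ a ∈ zpowers r, u * a * u⁻¹ ∈ zpowers r) {X Y : β} (hX : r • X ≠ X)
    (hY : Y ∈ orbit (zpowers r) X) (huX : u • X = X) (huY : u • Y = Y) : Y = X := by
  obtain ⟨⟨a, ha⟩, hY⟩ := hY
  have haX : a • X = Y := hY
  subst haX
  haveI : Fact (orderOf r).Prime := ⟨hr⟩
  have hfree : ∀ b ∈ zpowers r, b • X = X → b = 1 := by
    intro b hb hbX
    by_contra hb1
    have hgen : zpowers (⟨b, hb⟩ : zpowers r) = ⊤ :=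
      zpowers_eq_top_of_prime_card (p := orderOf r) (Nat.card_zpowers r)
        fun h => hb1 (congrArg Subtype.val h)
    obtain ⟨k, hk⟩ := mem_zpowers_iff.1 (hgen ▸ mem_top (⟨r, mem_zpowers r⟩ : zpowers r))
    have hk' : b ^ k = r := congrArg Subtype.val hk
    exact hX (hk' ▸ mem_stabilizer_iff.1 (Subgroup.zpow_mem (stabilizer G X) hbX k))
  have h1 : a⁻¹ * (u * a * u⁻¹) = 1 := by
    refine hfree _ (mul_mem (inv_mem ha) (hN a ha)) ?_
    have e : u⁻¹ • X = X := inv_smul_eq_iff.2 huX.symm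
    rw [mul_smul, mul_smul, mul_smul, e, huY, inv_smul_smul]
  by_contra hne
  have ha1 : a ≠ 1 := fun h => hne (by rw [h, one_smul])
  have hgen : zpowers (⟨a, ha⟩ : zpowers r) = ⊤ :=
    zpowers_eq_top_of_prime_card (p := orderOf r) (Nat.card_zpowers r)
      fun h => ha1 (congrArg Subtype.val h)
  obtain ⟨k, hk⟩ := mem_zpowers_iff.1 (hgen ▸ mem_top (⟨r, mem_zpowers r⟩ : zpowers r))
  have hk' : a ^ k = r := congrArg Subtype.val hk
  refine hu (mem_centralizer_singleton_iff.2 ?_)
  have hc : Commute u a := by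
    have h2 : u * a * u⁻¹ = a := (inv_mul_eq_one.1 h1).symm
    exact mul_inv_eq_iff_eq_mul.1 h2
  rw [← hk']
  exact (hc.zpow_right k).eq

variable [Fintype β] [DecidableEq β]

/-- Orbits of an element of order `11`. -/
theorem card_orbit_eleven {r : G} (hr : orderOf r = 11) {X : β} (hX : r • X ≠ X) :
    (univ.filter fun Y => Y ∈ orbit (zpowers r) X).card = 11 := by
  classical
  have h0 : (univ.filter fun Y => Y ∈ orbit (zpowers r) X).card =
      (orbit (zpowers r) X).ncard := by
    rw [← Set.ncard_coe_finset]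
    congr 1
    ext Y
    simp
  rw [h0, ← index_stabilizer]
  have hcard : Nat.card (zpowers r) = 11 := by rw [Nat.card_zpowers, hr]
  have hd := (stabilizer (zpowers r) X).index_dvd_card
  rw [hcard] at hd
  rcases (Nat.dvd_prime (by norm_num)).1 hd with h | h
  · exfalso
    rw [index_eq_one] at h
    exact hX (mem_stabilizer_iff.1 (h ▸ mem_top (⟨r, mem_zpowers r⟩ : zpowers r)) :)
  · exact h

/-- Elements of order `11` and `2` inverting it, in an action with a single `11`-orbit and at most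
one further point, give an odd permutation. -/
theorem no_small_action [Finite G] [IsSimpleGroup G] (hG : ¬ IsMulCommutative G) {r t : G}
    (hr : orderOf r = 11) (ht : t ^ 2 = 1) (htC : t ∉ centralizer {r})
    (htN : ∀ a ∈ zpowers r, t * a * t⁻¹ ∈ zpowers r)
    {X₀ : β} (hX₀ : r • X₀ ≠ X₀)
    (hcard : Fintype.card β = (univ.filter fun b : β => r • b = b).card + 11)
    (hfix : ∀ b : β, r • b = b → t • b = b) : False := by
  classical
  haveI : Fact (Nat.Prime 2) := ⟨Nat.prime_two⟩
  set F := univ.filter fun b : β => r • b = b with hF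
  set O := univ.filter fun Y => Y ∈ orbit (zpowers r) X₀ with hO
  have hOF : O = Fᶜ := by
    refine Finset.eq_of_subset_of_card_le (fun Y hY => ?_) ?_
    · rw [hO, Finset.mem_filter] at hY
      obtain ⟨⟨a, ha⟩, haY⟩ := hY.2
      have haY' : a • X₀ = Y := haY
      rw [Finset.mem_compl, hF, Finset.mem_filter]
      rintro ⟨-, hb⟩
      refine hX₀ ?_
      obtain ⟨k, rfl⟩ := mem_zpowers_iff.1 ha
      rw [← haY', ← mul_smul, (Commute.self_zpow r k).eq, mul_smul] at hb
      exact smul_left_cancel _ hb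
    · rw [Finset.card_compl, hcard, card_orbit_eleven hr hX₀]
      omega
  have hOstable : ∀ b, b ∈ O ↔ t • b ∈ O := by
    have hrt : ∀ b : β, r • b = b → r • t • b = t • b := fun b hb => by rw [hfix b hb, hb]
    intro b
    rw [hOF, Finset.mem_compl, Finset.mem_compl, not_iff_not, hF, Finset.mem_filter,
      Finset.mem_filter]
    constructor
    · exact fun h => ⟨mem_univ _, hrt b h.2⟩
    · intro h
      have h2 := hrt _ h.2
      rw [← mul_smul t t, ← pow_two, ht, one_smul] at h2
      exact ⟨mem_univ _, h2⟩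
  have hle : (O.filter fun b => t • b = b).card ≤ 1 := by
    rw [Finset.card_le_one]
    intro Y hY Z hZ
    rw [Finset.mem_filter, hO, Finset.mem_filter] at hY hZ
    have hYne : r • Y ≠ Y := by
      have : Y ∈ O := by rw [hO, Finset.mem_filter]; exact hY.1
      rw [hOF, Finset.mem_compl, hF, Finset.mem_filter] at this
      exact fun e => this ⟨mem_univ _, e⟩
    refine (unique_fixed (by rw [hr]; norm_num) htC htN hYne ?_ hY.2 hZ.2).symm
    rw [orbit_eq_iff.2 hY.1.2]
    exact hZ.1.2
  have hmod := card_fixed_modEq (ℓ := 2) ht O hOstable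
  rw [card_orbit_eleven hr hX₀] at hmod
  have h1 : (O.filter fun b => t • b = b).card = 1 := by
    unfold Nat.ModEq at hmod
    omega
  have hsplit : (univ.filter fun b : β => t • b = b).card = F.card + 1 := by
    have : (univ.filter fun b : β => t • b = b) = F ∪ (O.filter fun b => t • b = b) := by
      ext b
      rw [hOF]
      simp only [Finset.mem_union, Finset.mem_filter, Finset.mem_compl]
      refine ⟨fun h => ?_, ?_⟩
      · by_cases hb : b ∈ F
        · exact Or.inl hb
        · exact Or.inr ⟨hb, h.2⟩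
      · rintro (h | h)
        · exact ⟨mem_univ _, hfix b (Finset.mem_filter.1 h).2⟩
        · exact ⟨mem_univ _, h.2⟩
    rw [this, Finset.card_union_of_disjoint, h1]
    rw [hOF, Finset.disjoint_left]
    intro b hb hb'
    exact (Finset.mem_compl.1 (Finset.mem_filter.1 hb').1) hb
  have hs := sign_toPerm_of_sq (β := β) ht
  rw [SmallSimple.Basic.sign_eq_one hG, hsplit, hcard,
    show (F.card + 11 - (F.card + 1)) / 2 = 5 by omega] at hs
  exact absurd hs (by decide)

end Free

variable [Finite G] [IsSimpleGroup G]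

/-- Sylow `3`-subgroups are only fixed by `11`-elements equal to one. -/
theorem eleven_no_fixed [Fact (Nat.Prime 3)] (hn : Nat.card (Sylow 3 G) = 22) {g : G}
    (hg : g ^ 11 = 1) {Q : Sylow 3 G} (hgQ : g • Q = Q) : g = 1 := by
  classical
  haveI := Fintype.ofFinite (Sylow 3 G)
  have hn' : Fintype.card (Sylow 3 G) = 22 := by rw [← hn, Nat.card_eq_fintype_card]
  refine SylowTwoP.eq_one_of_forall_smul (p := 3)
    (SylowTwoP.forall_mem_eq_one (p := 3) (by omega)) (by omega) fun R => ?_
  by_cases hR : R = Q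
  · rw [hR, hgQ]
  set S := (univ.erase Q).image (orb Q) with hS
  have hcardS : 3 * S.card ≤ 21 := by
    have hfib := Finset.mul_card_image_le_card (f := orb Q) (univ.erase Q) 3 (by
      intro O hO
      obtain ⟨T, hT, rfl⟩ := Finset.mem_image.1 hO
      have hTQ := (Finset.mem_erase.1 hT).1
      refine le_trans ?_ (Finset.card_le_card (s := orb Q T) fun U hU => ?_)
      · rcases card_orb hn' hTQ with h | h <;> omega
      · exact Finset.mem_filter.2
          ⟨Finset.mem_erase.2 ⟨ne_of_mem_orb hTQ hU, mem_univ _⟩, orb_eq_of_mem hU⟩)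
    rw [Finset.card_erase_of_mem (mem_univ _), Finset.card_univ, hn'] at hfib
    omega
  have h1 : g • orb Q R = orb Q R := by
    refine smul_eq_of_small (by norm_num : Nat.Prime 11) hg S ?_ (by omega)
      (Finset.mem_image_of_mem _ (Finset.mem_erase.2 ⟨hR, mem_univ _⟩))
    intro O hO
    obtain ⟨T, hT, rfl⟩ := Finset.mem_image.1 hO
    refine Finset.mem_image.2 ⟨g • T, Finset.mem_erase.2 ⟨?_, mem_univ _⟩, (smul_orb hgQ).symm⟩
    exact fun e => (Finset.mem_erase.1 hT).1 (smul_left_cancel g (e.trans hgQ.symm))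
  refine smul_eq_of_small (by norm_num : Nat.Prime 11) hg (orb Q R) ?_ ?_ (self_mem_orb Q R)
  · intro T hT
    rw [← h1]
    exact Finset.smul_mem_smul_finset hT
  · rcases card_orb hn' hR with h | h <;> omega

/-- The facts about the prime `11`. -/
theorem eleven [Fact (Nat.Prime 3)] (hG : ¬ IsMulCommutative G)
    (hn : Nat.card (Sylow 3 G) = 22) (P : Sylow 3 G) :
    Nat.card (normalizer ((P : Subgroup G) : Set G)) % 11 = 1 ∧
      (∀ H : Subgroup G, H.index ≠ 11) ∧
      Nat.card (normalizer ((P : Subgroup G) : Set G)) ≠ 12 := by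
  classical
  haveI := Fintype.ofFinite (Sylow 3 G)
  haveI : Fact (Nat.Prime 11) := ⟨by norm_num⟩
  haveI : Fact (Nat.Prime 5) := ⟨Nat.prime_five⟩
  haveI : Fact (Nat.Prime 2) := ⟨Nat.prime_two⟩
  have hn' : Fintype.card (Sylow 3 G) = 22 := by rw [← hn, Nat.card_eq_fintype_card]
  set H := normalizer ((P : Subgroup G) : Set G) with hH
  have hGcard : Nat.card H * 22 = Nat.card G := by
    rw [← hn, Counting.SylowCount.card_sylow_eq_index P, card_mul_index]
  have h11 : 11 ∣ Nat.card G := hGcard ▸ Dvd.dvd.mul_left (by norm_num) _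
  obtain ⟨r, hr⟩ := exists_prime_orderOf_dvd_card' 11 h11
  have hr1 : r ≠ 1 := fun e => by rw [e, orderOf_one] at hr; omega
  have hr11 : r ^ 11 = 1 := hr ▸ pow_orderOf_eq_one r
  have hnf : ∀ X : Sylow 3 G, r • X ≠ X := fun X e => hr1 (eleven_no_fixed hn hr11 e)
  let O : Sylow 3 G → Finset (Sylow 3 G) := fun X => univ.filter fun Y => Y ∈ orbit (zpowers r) X
  have hOc : ∀ X, (O X).card = 11 := fun X => card_orbit_eleven hr (hnf X)
  have hOmem : ∀ {X Y}, Y ∈ O X ↔ Y ∈ orbit (zpowers r) X := fun {X Y} => by simp [O]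
  have hOeq : ∀ {X Y}, Y ∈ O X → O Y = O X := fun {X Y} h => by
    ext Z; simp only [hOmem]; rw [orbit_eq_iff.2 (hOmem.1 h)]
  have hOcompl : ∀ {X Y}, Y ∉ O X → O Y = (O X)ᶜ := fun {X Y} h => by
    refine Finset.eq_of_subset_of_card_le (fun Z hZ => Finset.mem_compl.2 fun hZ' => ?_) ?_
    · exact h (hOeq hZ' ▸ (hOeq hZ).symm ▸ hOmem.2 (mem_orbit_self Y))
    · rw [Finset.card_compl, hOc, hOc, hn']
  -- the centraliser of `r`
  set C := centralizer ({r} : Set G) with hC
  have hsemi : ∀ c ∈ C, ∀ X : Sylow 3 G, c • X = X → c = 1 := by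
    intro c hc X hcX
    have hcomm : ∀ a ∈ zpowers r, ∀ Y : Sylow 3 G, c • a • Y = a • c • Y := by
      intro a ha Y
      obtain ⟨k, rfl⟩ := mem_zpowers_iff.1 ha
      have : Commute c r := mem_centralizer_singleton_iff.1 hc
      rw [← mul_smul, ← mul_smul, (this.zpow_right k).eq]
    have hfixO : ∀ Y ∈ O X, c • Y = Y := by
      intro Y hY
      obtain ⟨⟨a, ha⟩, rfl⟩ := hOmem.1 hY
      show c • a • X = a • X
      rw [hcomm a ha, hcX]
    have h11' : c ^ 11 = 1 := by
      refine SylowTwoP.eq_one_of_forall_smul (p := 3)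
        (SylowTwoP.forall_mem_eq_one (p := 3) (by omega)) (by omega) fun Y => ?_
      by_cases hY : Y ∈ O X
      · exact mem_stabilizer_iff.1 (Subgroup.pow_mem _ (mem_stabilizer_iff.2 (hfixO Y hY)) 11)
      have hcY : c • Y ∈ O Y := by
        rw [hOcompl hY, Finset.mem_compl]
        intro h
        exact hY (smul_left_cancel c (hfixO _ h) ▸ h)
      obtain ⟨⟨a, ha⟩, he⟩ := hOmem.1 hcY
      have he' : a • Y = c • Y := he
      have hk : ∀ k : ℕ, c ^ k • Y = a ^ k • Y := by
        intro k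
        induction k with
        | zero => simp
        | succ k ih =>
          rw [pow_succ', mul_smul, ih, hcomm _ (pow_mem ha k), ← he', ← mul_smul, ← pow_succ]
      have ha11 : a ^ 11 = 1 := by
        obtain ⟨k, rfl⟩ := mem_zpowers_iff.1 ha
        rw [← zpow_natCast, ← zpow_mul, mul_comm, zpow_mul, zpow_natCast, hr11, one_zpow]
      rw [hk, ha11, one_smul]
    exact eleven_no_fixed hn h11' hcX
  have hCle : Nat.card C ≤ 22 := by
    rw [← hn]
    refine Nat.card_le_card_of_injective (fun c : C => (c : G) • P) fun a b e => ?_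
    have e' : (a : G) • P = (b : G) • P := e
    have := hsemi _ (mul_mem (inv_mem a.2) b.2) P (by rw [mul_smul, ← e', inv_smul_smul])
    exact Subtype.ext (inv_mul_eq_one.1 this)
  have hrC : zpowers r ≤ C := zpowers_le.2 (mem_centralizer_singleton_iff.2 rfl)
  have hzr : Nat.card (zpowers r) = 11 := by rw [Nat.card_zpowers, hr]
  have hCeq : zpowers r = C := by
    have hd : 11 ∣ Nat.card C := hzr ▸ card_dvd_of_le hrC
    obtain ⟨m, hm⟩ := hd
    have hm2 : m ≤ 2 := by omega
    have hm0 : 0 < m := by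
      rcases Nat.eq_zero_or_pos m with h | h
      · rw [h, mul_zero] at hm; exact absurd hm Nat.card_pos.ne'
      · exact h
    rcases (show m = 1 ∨ m = 2 by omega) with rfl | rfl
    · exact eq_of_le_of_card_ge hrC (by omega)
    exfalso
    obtain ⟨⟨t, htC⟩, ht⟩ := exists_prime_orderOf_dvd_card' (G := C) 2 (by omega)
    rw [Subgroup.orderOf_mk] at ht
    have ht2 : t ^ 2 = 1 := ht ▸ pow_orderOf_eq_one t
    have hnone : (univ.filter fun X : Sylow 3 G => t • X = X) = ∅ := by
      refine Finset.eq_empty_of_forall_notMem fun X hX => ?_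
      rw [hsemi t htC X (Finset.mem_filter.1 hX).2, orderOf_one] at ht
      omega
    have hs := sign_toPerm_of_sq (β := Sylow 3 G) ht2
    rw [SmallSimple.Basic.sign_eq_one hG, hnone, Finset.card_empty, hn'] at hs
    exact absurd hs (by decide)
  -- the Sylow subgroup
  obtain ⟨R, hR⟩ := (IsPGroup.of_card (n := 1) (p := 11) (by rw [hzr, pow_one]) :
    IsPGroup 11 (zpowers r)).exists_le_sylow
  have hReq : (R : Subgroup G) = zpowers r := by
    refine le_antisymm ?_ hR
    have hrR : r ∈ (R : Subgroup G) := hR (mem_zpowers r)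
    haveI : Nontrivial (R : Subgroup G) :=
      ⟨⟨⟨r, hrR⟩, 1, fun e => hr1 (congrArg Subtype.val e)⟩⟩
    haveI := R.2.center_nontrivial
    obtain ⟨z, hz1⟩ := exists_ne (1 : Subgroup.center (R : Subgroup G))
    have hzC : ((z : (R : Subgroup G)) : G) ∈ zpowers r := by
      rw [hCeq, hC, mem_centralizer_singleton_iff]
      exact congrArg Subtype.val ((Subgroup.mem_center_iff.1 z.2 ⟨r, hrR⟩).symm)
    have hgen : zpowers (⟨_, hzC⟩ : zpowers r) = ⊤ :=
      zpowers_eq_top_of_prime_card (p := 11) hzr fun h => hz1 (Subtype.ext (Subtype.ext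
        (congrArg Subtype.val h :)))
    intro y hy
    rw [hCeq, hC, mem_centralizer_singleton_iff]
    obtain ⟨k, hk⟩ := mem_zpowers_iff.1 (hgen ▸ mem_top (⟨r, mem_zpowers r⟩ : zpowers r))
    have hk' : ((z : (R : Subgroup G)) : G) ^ k = r := congrArg Subtype.val hk
    have hc : Commute y ((z : (R : Subgroup G)) : G) :=
      congrArg Subtype.val (Subgroup.mem_center_iff.1 z.2 ⟨y, hy⟩)
    rw [← hk']
    exact (hc.zpow_right k).eq
  set N := normalizer ((R : Subgroup G) : Set G) with hNdef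
  have hNmem : ∀ u ∈ N, ∀ a ∈ zpowers r, u * a * u⁻¹ ∈ zpowers r := by
    intro u hu a ha
    rw [← hReq] at ha ⊢
    exact (Subgroup.mem_normalizer_iff.1 hu a).1 ha
  have hCR : centralizer ((R : Subgroup G) : Set G) = zpowers r := by
    refine le_antisymm ?_ ?_
    · rw [hCeq, hC, hReq]
      exact centralizer_le (Set.singleton_subset_iff.2 (mem_zpowers r))
    · intro y hy
      rw [hReq, mem_centralizer_iff]
      intro a ha
      obtain ⟨i, rfl⟩ := mem_zpowers_iff.1 hy
      obtain ⟨j, rfl⟩ := mem_zpowers_iff.1 ha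
      exact (Commute.zpow_zpow_self r j i).eq
  obtain ⟨e, he, hNc⟩ : ∃ e, e ∣ 10 ∧ Nat.card N = 11 * e := by
    haveI : IsCyclic (R : Subgroup G) := by rw [hReq]; infer_instance
    have hd := SylowTwoP.card_relIndex_centralizer_dvd_totient (R := (R : Subgroup G)) inferInstance
    rw [hCR, hReq, hzr, Nat.totient_prime (by norm_num)] at hd
    refine ⟨_, hd, ?_⟩
    have h2 := relIndex_mul_relIndex ⊥ (zpowers r) N bot_le (hReq ▸ le_normalizer)
    rw [relIndex_bot_left, relIndex_bot_left, hzr] at h2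
    rw [← h2, hNdef, hReq]
  have hnotC : ∀ u ∈ N, ∀ ℓ : ℕ, orderOf u = ℓ → ¬ ℓ ∣ 11 → u ∉ C := by
    intro u _ ℓ hu hℓ huC
    rw [← hCeq] at huC
    apply hℓ
    have := orderOf_dvd_natCard (⟨u, huC⟩ : zpowers r)
    rwa [hzr, Subgroup.orderOf_mk, hu] at this
  have hrprime : (orderOf r).Prime := by rw [hr]; norm_num
  have hfixle : ∀ u ∈ N, u ∉ C → ∀ X, ((O X).filter fun Y => u • Y = Y).card ≤ 1 := by
    intro u hu huC X
    rw [Finset.card_le_one]
    intro Y hY Z hZ
    rw [Finset.mem_filter] at hY hZ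
    refine (unique_fixed hrprime huC (hNmem u hu) (hnf Y) ?_ hY.2 hZ.2).symm
    rw [← hOmem, hOeq hY.1]
    exact hZ.1
  have hstab : ∀ u ∈ N, ∀ X Y, Y ∈ O X → u • Y ∈ O (u • X) := by
    intro u hu X Y hY
    obtain ⟨⟨a, ha⟩, rfl⟩ := hOmem.1 hY
    refine hOmem.2 ⟨⟨u * a * u⁻¹, hNmem u hu a ha⟩, ?_⟩
    show (u * a * u⁻¹) • u • X = u • a • X
    rw [← mul_smul, ← mul_smul, inv_mul_cancel_right]
  have h5 : ¬ 5 ∣ e := by
    intro h5
    obtain ⟨⟨z, hzN⟩, hz⟩ := exists_prime_orderOf_dvd_card' (G := N) 5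
      (by rw [hNc]; exact h5.mul_left 11)
    rw [Subgroup.orderOf_mk] at hz
    have hz5 : z ^ 5 = 1 := hz ▸ pow_orderOf_eq_one z
    have hzC := hnotC z hzN 5 hz (by norm_num)
    have hsmul : ∀ X, z • O X = O (z • X) := by
      intro X
      refine Finset.eq_of_subset_of_card_le (fun W hW => ?_) ?_
      · obtain ⟨Y, hY, rfl⟩ := Finset.mem_smul_finset.1 hW
        exact hstab z hzN X Y hY
      · rw [Finset.card_smul_finset, hOc, hOc]
    have hinv : ∀ X, O (z • X) = O X := by
      intro X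
      rw [← hsmul]
      refine smul_eq_of_small Nat.prime_five hz5 {O X, (O X)ᶜ} ?_
        (lt_of_le_of_lt Finset.card_le_two (by norm_num)) (Finset.mem_insert_self _ _)
      intro S hS
      obtain ⟨W, rfl⟩ : ∃ W, O W = S := by
        rcases Finset.mem_insert.1 hS with h | h
        · exact ⟨X, h.symm⟩
        · rw [Finset.mem_singleton] at h
          have hne : ((O X)ᶜ).Nonempty := by
            rw [← Finset.card_pos, Finset.card_compl, hOc, hn']; norm_num
          obtain ⟨W, hW⟩ := hne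
          exact ⟨W, by rw [h]; exact hOcompl (Finset.mem_compl.1 hW)⟩
      rw [hsmul, Finset.mem_insert, Finset.mem_singleton]
      by_cases hzW : z • W ∈ O X
      · exact Or.inl (hOeq hzW)
      · exact Or.inr (hOcompl hzW)
    have hst : ∀ X Y, Y ∈ O X ↔ z • Y ∈ O X := by
      intro X Y
      constructor <;> intro h
      · rw [← hinv X]; exact hstab z hzN X Y h
      · rw [← hOeq h, hinv]; exact hOmem.2 (mem_orbit_self Y)
    have hex : ∀ X, ∃ Y ∈ O X, z • Y = Y := by
      intro X
      have hmod := card_fixed_modEq (ℓ := 5) hz5 (O X) (hst X)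
      rw [hOc] at hmod
      have : 0 < ((O X).filter fun Y => z • Y = Y).card := by
        unfold Nat.ModEq at hmod; omega
      obtain ⟨Y, hY⟩ := Finset.card_pos.1 this
      rw [Finset.mem_filter] at hY
      exact ⟨Y, hY⟩
    obtain ⟨Q, -, hQ⟩ := hex P
    have hne : ((O Q)ᶜ).Nonempty := by
      rw [← Finset.card_pos, Finset.card_compl, hOc, hn']; norm_num
    obtain ⟨W, hW⟩ := hne
    obtain ⟨S, hS, hSz⟩ := hex W
    rw [hOcompl (Finset.mem_compl.1 hW), Finset.mem_compl] at hS
    have hSQ : S ≠ Q := fun e => hS (by rw [e]; exact hOmem.2 (mem_orbit_self Q))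
    have horb : z • orb Q S = orb Q S := by rw [smul_orb hQ, hSz]
    have hmod := card_fixed_modEq (ℓ := 5) hz5 (orb Q S) (fun b => by
      conv_rhs => rw [← horb]
      exact (Finset.smul_mem_smul_finset_iff z).symm)
    have hle : ((orb Q S).filter fun Y => z • Y = Y).card ≤ 1 := by
      refine le_trans (Finset.card_le_card fun Y hY => ?_) (Finset.card_singleton S).le
      rw [Finset.mem_filter] at hY
      rw [Finset.mem_singleton]
      have hYQ : Y ≠ Q := ne_of_mem_orb hSQ hY.1
      by_cases hYO : Y ∈ O Q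
      · exact absurd (Finset.card_le_one.1 (hfixle z hzN hzC Q) Y
          (Finset.mem_filter.2 ⟨hYO, hY.2⟩) Q
          (Finset.mem_filter.2 ⟨hOmem.2 (mem_orbit_self Q), hQ⟩)) hYQ
      · refine Finset.card_le_one.1 (hfixle z hzN hzC S) Y (Finset.mem_filter.2 ⟨?_, hY.2⟩) S
          (Finset.mem_filter.2 ⟨hOmem.2 (mem_orbit_self S), hSz⟩)
        rw [hOcompl hS, Finset.mem_compl]
        exact hYO
    unfold Nat.ModEq at hmod
    rcases card_orb hn' hSQ with h | h <;> rw [h] at hmod <;> omega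
  have he2 : e = 2 := by
    have hcases : e = 1 ∨ e = 2 ∨ e = 5 ∨ e = 10 := by
      have hle : e ≤ 10 := Nat.le_of_dvd (by norm_num) he
      interval_cases e <;> omega
    rcases hcases with rfl | rfl | rfl | rfl
    rotate_left
    · rfl
    · exact absurd (dvd_refl 5) h5
    · exact absurd (by norm_num) h5
    exfalso
    refine SmallSimple.Basic.not_normalizer_le_centralizer hG h11 R ?_
    have : N = zpowers r :=
      (eq_of_le_of_card_ge (hReq ▸ le_normalizer) (by omega)).symm
    rw [← hNdef, this, hCR]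
  subst he2
  obtain ⟨⟨t, htN⟩, ht⟩ := exists_prime_orderOf_dvd_card' (G := N) 2 (by rw [hNc]; norm_num)
  rw [Subgroup.orderOf_mk] at ht
  have ht2 : t ^ 2 = 1 := ht ▸ pow_orderOf_eq_one t
  have htC := hnotC t htN 2 ht (by norm_num)
  have hcount : Nat.card (Sylow 11 G) = Nat.card H := by
    have hA := Counting.SylowCount.card_sylow_eq_index R
    have h2 := card_mul_index N
    rw [hNdef] at h2 hNc
    rw [hNc, ← hA, ← hGcard] at h2
    omega
  refine ⟨?_, fun K hK => ?_, fun h12 => ?_⟩
  · have := card_sylow_modEq_one 11 G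
    rw [hcount, Nat.ModEq] at this
    simpa using this
  · haveI := Fintype.ofFinite (G ⧸ K)
    have hKne : K ≠ ⊤ := fun h => by rw [h, index_top] at hK; omega
    obtain ⟨X₀, hX₀⟩ : ∃ X : G ⧸ K, r • X ≠ X := by
      by_contra hc
      push Not at hc
      exact hr1 (SmallSimple.Basic.toPermHom_injective K hKne
        (by rw [map_one]; exact Equiv.ext hc))
    have hcard : Fintype.card (G ⧸ K) = 11 := by rw [← Nat.card_eq_fintype_card]; exact hK
    have hF : ∀ b : G ⧸ K, r • b ≠ b := by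
      intro b hb
      have hsub : (univ.filter fun Y => Y ∈ orbit (zpowers r) X₀) = univ := by
        refine Finset.eq_univ_of_card _ ?_
        rw [hcard]
        exact card_orbit_eleven hr hX₀
      have hbO : b ∈ orbit (zpowers r) X₀ :=
        (Finset.mem_filter.1 (hsub.symm ▸ mem_univ b)).2
      obtain ⟨⟨a, ha⟩, hab⟩ := hbO
      have hab' : a • X₀ = b := hab
      obtain ⟨k, rfl⟩ := mem_zpowers_iff.1 ha
      rw [← hab', ← mul_smul, (Commute.self_zpow r k).eq, mul_smul] at hb
      exact hX₀ (smul_left_cancel _ hb)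
    refine no_small_action hG hr ht2 htC (hNmem t htN) hX₀ ?_ fun b hb => absurd hb (hF b)
    rw [hcard, Finset.filter_false_of_mem fun b _ => hF b, Finset.card_empty]
  · haveI := Fintype.ofFinite (Sylow 11 G)
    have hcard : Fintype.card (Sylow 11 G) = 12 := by
      rw [← Nat.card_eq_fintype_card, hcount]; exact h12
    have hfixR : ∀ S : Sylow 11 G, r • S = S → S = R := by
      intro S hS
      have h1 : r ∈ (S : Subgroup G) := by
        have h2 : r ∈ (R : Subgroup G) ⊓ normalizer ((S : Subgroup G) : Set G) :=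
          ⟨by rw [hReq]; exact mem_zpowers r, Sylow.smul_eq_iff_mem_normalizer.1 hS⟩
        have h3 := (R.2.inf_normalizer_sylow S).le h2
        exact h3.2
      refine Sylow.ext (eq_of_le_of_card_ge (hReq ▸ zpowers_le.2 h1) ?_).symm
      rw [S.card_eq_multiplicity, R.card_eq_multiplicity]
    have hRfix : r • R = R := by
      refine Sylow.smul_eq_iff_mem_normalizer.2 (le_normalizer ?_)
      rw [hReq]; exact mem_zpowers r
    obtain ⟨X₀, hX₀⟩ : ∃ S : Sylow 11 G, r • S ≠ S := by
      obtain ⟨S, hS⟩ := Fintype.exists_ne_of_one_lt_card (by omega) R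
      exact ⟨S, fun e => hS (hfixR S e)⟩
    refine no_small_action hG hr ht2 htC (hNmem t htN) hX₀ ?_ fun b hb => by
      rw [hfixR b hb]; exact Sylow.smul_eq_iff_mem_normalizer.2 htN
    have : (univ.filter fun b : Sylow 11 G => r • b = b) = {R} := by
      ext S
      rw [Finset.mem_filter, Finset.mem_singleton]
      exact ⟨fun h => hfixR S h.2, fun h => ⟨mem_univ _, h ▸ hRfix⟩⟩
    rw [hcard, this, Finset.card_singleton]

end Cfsg.Agent.GroupStructure3.TwentyTwo
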