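import Mathlib

/-!
Elementary facts on group actions with elements of prime order, used for `n_3 ≠ 22`.
-/

set_option autoImplicit false

namespace Cfsg.Agent.GroupStructure3.TwentyTwo

open MulAction Finset

variable {G β : Type*} [Group G] [MulAction G β]

/-- An element of prime order fixes every point of an invariant set smaller than that prime. -/
theorem smul_eq_of_small {g : G} {ℓ : ℕ} (hℓ : ℓ.Prime) (hg : g ^ ℓ = 1) (S : Finset β)
    (hS : ∀ b ∈ S, g • b ∈ S) (hc : S.card < ℓ) {b : β} (hb : b ∈ S) : g • b = b := by
  classical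
  have hper : Function.IsPeriodicPt (g • ·) ℓ b := by
    rw [Function.IsPeriodicPt, smul_iterate, hg]
    exact one_smul G b
  have hd := hper.minimalPeriod_dvd
  rcases (Nat.dvd_prime hℓ).1 hd with h | h
  · exact Function.minimalPeriod_eq_one_iff_isFixedPt.1 h
  · exfalso
    have hsub : (Finset.range ℓ).image (fun k => (g • ·)^[k] b) ⊆ S := by
      intro x hx
      obtain ⟨k, -, rfl⟩ := Finset.mem_image.1 hx
      clear hx
      induction k with
      | zero => simpa using hb
      | succ k ih =>
        rw [Function.iterate_succ_apply']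
        exact hS _ ih
    have hle := Finset.card_le_card hsub
    rw [Finset.card_image_of_injOn, Finset.card_range] at hle
    · omega
    intro a ha c hc' e
    rw [Finset.coe_range, Set.mem_Iio, ← h] at ha hc'
    exact Function.iterate_injOn_Iio_minimalPeriod ha hc' e

/-- An element of prime order fixes a number of points congruent to the size of an invariant set. -/
theorem card_fixed_modEq [DecidableEq β] {g : G} {ℓ : ℕ} [Fact ℓ.Prime] (hg : g ^ ℓ = 1)
    (S : Finset β) (hS : ∀ b, b ∈ S ↔ g • b ∈ S) :
    (S.filter fun b => g • b = b).card ≡ S.card [MOD ℓ] := by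
  let σ : Equiv.Perm {b // b ∈ S} := (MulAction.toPerm g).subtypePerm fun b => (hS b).symm
  have hσ : σ ^ ℓ ^ 1 = 1 := by
    have hk : ∀ (k : ℕ) (x : {b // b ∈ S}), ((σ ^ k) x).1 = g ^ k • x.1 := by
      intro k
      induction k with
      | zero => intro x; simp
      | succ k ih =>
        intro x
        rw [pow_succ', Equiv.Perm.mul_apply, pow_succ', mul_smul, ← ih x]
        rfl
    ext x
    rw [pow_one, hk, hg, one_smul]
    rfl
  have h := Equiv.Perm.card_compl_support_modEq hσ
  rw [Fintype.card_coe] at h
  have e : σ.supportᶜ.map (Function.Embedding.subtype _) = S.filter fun b => g • b = b := by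
    ext b
    rw [Finset.mem_map, Finset.mem_filter]
    constructor
    · rintro ⟨x, hx, rfl⟩
      rw [Finset.mem_compl, Equiv.Perm.mem_support, not_not] at hx
      exact ⟨x.2, congrArg Subtype.val hx⟩
    · rintro ⟨hb, hbg⟩
      refine ⟨⟨b, hb⟩, ?_, rfl⟩
      rw [Finset.mem_compl, Equiv.Perm.mem_support, not_not]
      exact Subtype.ext hbg
  rw [← e, Finset.card_map]
  exact h

variable [Fintype β] [DecidableEq β]

/-- The sign of an element acting as an involution with `f` fixed points. -/
theorem sign_toPerm_of_sq {t : G} (ht : t ^ 2 = 1) :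
    Equiv.Perm.sign (MulAction.toPermHom G β t) =
      (-1) ^ ((Fintype.card β - (univ.filter fun b : β => t • b = b).card) / 2) := by
  rw [Equiv.Perm.sign_of_pow_two_eq_one (by rw [← map_pow, ht, map_one])]
  congr
  rw [Fintype.card_subtype]
  rfl

end Cfsg.Agent.GroupStructure3.TwentyTwo
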