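import Cfsg.Agent.GroupStructure3.TwentyTwo.Blocks
import Cfsg.Agent.Lib.Characters.Burnside
import Cfsg.Agent.Lib.Counting.SylowCount

/-!
The case of Sylow `3`-subgroups of order `3`, and the conclusion for simple groups.
-/

set_option autoImplicit false

open scoped Pointwise Classical

namespace Cfsg.Agent.GroupStructure3.TwentyTwo

open Subgroup MulAction Finset

/-- No permutation group on seven points has order `35`, `70` or `112`. -/
theorem no_perm_seven {β : Type*} [Fintype β] [DecidableEq β] (hβ : Fintype.card β = 7)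
    (M : Subgroup (Equiv.Perm β))
    (hM : Nat.card M = 35 ∨ Nat.card M = 70 ∨ Nat.card M = 112) : False := by
  haveI : Fact (Nat.Prime 7) := ⟨by norm_num⟩
  haveI : Fact (Nat.Prime 2) := ⟨Nat.prime_two⟩
  have h7 : 7 ∣ Nat.card M := by rcases hM with h | h | h <;> rw [h] <;> norm_num
  obtain ⟨⟨σ, hσM⟩, hσ⟩ := exists_prime_orderOf_dvd_card' 7 h7
  rw [Subgroup.orderOf_mk] at hσ
  have hcyc : σ.IsCycle := Equiv.Perm.isCycle_of_prime_order' (by rw [hσ]; norm_num)
    (by rw [hβ, hσ]; norm_num)
  have hsupp : σ.support = Finset.univ := Finset.eq_univ_of_card _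
    (by rw [← hcyc.orderOf, hσ, hβ])
  have htrans : ∀ a b : β, ∃ k : ℤ, (σ ^ k) a = b := fun a b =>
    hcyc.sameCycle (Equiv.Perm.mem_support.1 (hsupp ▸ Finset.mem_univ a))
      (Equiv.Perm.mem_support.1 (hsupp ▸ Finset.mem_univ b))
  -- the Sylow subgroup is normal
  obtain ⟨R⟩ : Nonempty (Sylow 7 M) := Sylow.nonempty
  have hR : Nat.card (R : Subgroup M) = 7 := by
    rcases hM with h | h | h
    · exact SmallSimple.Basic.card_sylow_eq_pow (a := 1) (m := 5) (by rw [h]; norm_num)
        (by norm_num) R
    · exact SmallSimple.Basic.card_sylow_eq_pow (a := 1) (m := 10) (by rw [h]; norm_num)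
        (by norm_num) R
    · exact SmallSimple.Basic.card_sylow_eq_pow (a := 1) (m := 16) (by rw [h]; norm_num)
        (by norm_num) R
  have hRn : (R : Subgroup M).Normal := by
    have hdvd := R.card_dvd_index
    have hidx := card_mul_index (R : Subgroup M)
    rw [hR] at hidx
    have hmod := card_sylow_modEq_one 7 M
    rw [Nat.ModEq] at hmod
    rcases hM with h | h | h
    · have h5 : (R : Subgroup M).index = 5 := by omega
      rw [h5] at hdvd
      have hle := Nat.le_of_dvd (by norm_num) hdvd
      haveI : Subsingleton (Sylow 7 M) := Finite.card_le_one_iff_subsingleton.1 (by omega)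
      exact Sylow.normal_of_subsingleton R
    · have h5 : (R : Subgroup M).index = 10 := by omega
      rw [h5] at hdvd
      have hle := Nat.le_of_dvd (by norm_num) hdvd
      have h8 : Nat.card (Sylow 7 M) ≠ 8 := fun e => by rw [e] at hdvd; norm_num at hdvd
      haveI : Subsingleton (Sylow 7 M) := Finite.card_le_one_iff_subsingleton.1 (by omega)
      exact Sylow.normal_of_subsingleton R
    · haveI : Nontrivial M := by
        rw [← Finite.one_lt_card_iff_nontrivial, h]; norm_num
      have hsol : Group.IsSolvable M := Cfsg.Agent.Characters.burnside_pa_qb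
        (G := M) (a := 4) (b := 1) Nat.prime_two (by norm_num : Nat.Prime 7) (by rw [h]; norm_num)
      obtain ⟨q, K, hq, hKn, hKne, hKq⟩ :=
        Counting.SylowCount.exists_normal_pGroup_of_isSolvable hsol
      haveI := hKn
      haveI := Fact.mk hq
      obtain ⟨j, hj⟩ := hKq.exists_card_eq
      by_cases hq7 : q = 7
      · subst hq7
        have hd : Nat.card K ∣ 7 := by
          rw [← hR]; exact card_dvd_of_le (hKq.le_sylow_of_normal R)
        have hK7 : Nat.card K = 7 := by
          rcases (Nat.dvd_prime (by norm_num)).1 hd with e | e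
          · exact absurd (Subgroup.card_eq_one.1 e) hKne
          · exact e
        exact (eq_of_le_of_card_ge (hKq.le_sylow_of_normal R) (by omega)) ▸ hKn
      · exfalso
        apply hKne
        have hcop : (Nat.card K).Coprime 7 := by
          rw [hj]
          exact Nat.Coprime.pow_left _ ((Nat.coprime_primes hq (by norm_num)).2 hq7)
        haveI : IsPretransitive M β := ⟨fun a b => by
          obtain ⟨k, hk⟩ := htrans a b
          exact ⟨⟨σ ^ k, zpow_mem hσM k⟩, hk⟩⟩
        rw [eq_bot_iff]
        intro n hn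
        refine mem_bot.2 (Subtype.ext (Equiv.ext fun a => ?_))
        have h1 : (orbit K a).ncard ∣ Nat.card β :=
          (IsBlock.orbit_of_normal (G := M) a).ncard_dvd_card (nonempty_orbit a)
        have h2 : (orbit K a).ncard ∣ Nat.card K := by
          rw [← index_stabilizer]
          exact index_dvd_card _
        rw [Nat.card_eq_fintype_card, hβ] at h1
        obtain ⟨b, hb⟩ := Set.ncard_eq_one.1 (Nat.eq_one_of_dvd_coprimes hcop h2 h1)
        have e1 : (n : Equiv.Perm β) a ∈ orbit K a := ⟨⟨n, hn⟩, rfl⟩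
        have e2 := mem_orbit_self (M := K) a
        rw [hb, Set.mem_singleton_iff] at e1 e2
        rw [e1, ← e2]
        rfl
  -- bound the normaliser
  haveI := hRn
  haveI : IsCyclic (R : Subgroup M) := isCyclic_of_prime_card (p := 7) hR
  have hd := SylowTwoP.card_relIndex_centralizer_dvd_totient (R := (R : Subgroup M)) inferInstance
  rw [hR, Nat.totient_prime (by norm_num), normalizer_eq_top, relIndex_top_right] at hd
  set C := centralizer ((R : Subgroup M) : Set M) with hC
  have hσR : (⟨σ, hσM⟩ : M) ∈ (R : Subgroup M) := by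
    have hp : IsPGroup 7 (zpowers (⟨σ, hσM⟩ : M)) :=
      IsPGroup.of_card (n := 1) (by rw [Nat.card_zpowers, Subgroup.orderOf_mk, hσ, pow_one])
    obtain ⟨T, hT⟩ := hp.exists_le_sylow
    haveI : Subsingleton (Sylow 7 M) := Finite.card_le_one_iff_subsingleton.1
      (Counting.SylowCount.card_sylow_eq_one_of_normal R hRn).le
    rw [Subsingleton.elim R T]
    exact hT (mem_zpowers _)
  obtain ⟨a₀⟩ : Nonempty β := Fintype.card_pos_iff.1 (by omega)
  have hC7 : Nat.card C ≤ 7 := by
    rw [← hβ, ← Nat.card_eq_fintype_card]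
    refine Nat.card_le_card_of_injective (fun c : C => ((c : M) : Equiv.Perm β) a₀) fun c d e => ?_
    refine Subtype.ext (Subtype.ext (Equiv.ext fun b => ?_))
    obtain ⟨k, rfl⟩ := htrans a₀ b
    have key : ∀ c : C, ((c : M) : Equiv.Perm β) ((σ ^ k) a₀) =
        (σ ^ k) (((c : M) : Equiv.Perm β) a₀) := by
      intro c
      have hc : Commute ((c : M) : Equiv.Perm β) σ :=
        congrArg Subtype.val ((mem_centralizer_iff.1 c.2 _ hσR).symm)
      rw [← Equiv.Perm.mul_apply, (hc.zpow_right k).eq, Equiv.Perm.mul_apply]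
    rw [key, key]
    exact congrArg (σ ^ k) e
  have hle := Nat.le_of_dvd (by norm_num) hd
  have hmul := card_mul_index C
  have hpos : 0 < C.index := Nat.pos_of_ne_zero index_ne_zero_of_finite
  have h42 : Nat.card C * C.index ≤ 7 * 6 := Nat.mul_le_mul hC7 (by simpa using hle)
  rcases hM with h | h | h
  · have h5 : Nat.card C * C.index = 35 := hmul.trans h
    have : C.index ≤ 6 := by simpa using hle
    interval_cases hi : C.index <;> norm_num at hd <;> omega
  · omega
  · omega

universe u

variable {G : Type u} [Group G] [Finite G] [Fact (Nat.Prime 3)] [IsSimpleGroup G]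

theorem not_twentyTwo (hG : ¬ IsMulCommutative G) : Nat.card (Sylow 3 G) ≠ 22 := by
  intro hn
  haveI := Fintype.ofFinite (Sylow 3 G)
  have hn' : Fintype.card (Sylow 3 G) = 22 := by rw [← hn, Nat.card_eq_fintype_card]
  obtain ⟨P⟩ : Nonempty (Sylow 3 G) := Sylow.nonempty
  obtain ⟨hmod, h11, h12⟩ := eleven hG hn P
  have hP := card_sylow_three hn' hG h11 P
  set H := normalizer ((P : Subgroup G) : Set G) with hH
  have hPH : (P : Subgroup G) ≤ H := le_normalizer
  have h3 : ¬ 9 ∣ Nat.card H := by
    intro h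
    have h9 : 3 ^ 2 ∣ Nat.card G := (dvd_trans (by norm_num) h).trans (card_subgroup_dvd_card H)
    have h := (Nat.Prime.pow_dvd_iff_le_factorization Nat.prime_three Nat.card_pos.ne').1 h9
    rw [P.card_eq_multiplicity] at hP
    have : 3 ^ 2 ≤ 3 ^ (Nat.card G).factorization 3 := Nat.pow_le_pow_right (by norm_num) h
    omega
  -- the action on the seven orbits
  set Ω := (univ.erase P).image (orb P) with hΩ
  have horb3 : ∀ R, R ≠ P → (orb P R).card = 3 := by
    intro R hR
    rcases card_orb hn' hR with h | h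
    · exact h
    · exfalso
      have := Dvd.intro _ (card_orb_mul P R)
      rw [hP, h] at this
      norm_num at this
  have hΩcard : Ω.card = 7 := by
    have hsum := Finset.card_eq_sum_card_image (orb P) (univ.erase P)
    rw [Finset.sum_const_nat (m := 3) fun O hO => by
      obtain ⟨R, hR, rfl⟩ := Finset.mem_image.1 hO
      rw [Finset.mem_erase] at hR
      have : ((univ.erase P).filter fun S => orb P S = orb P R) = orb P R := by
        ext S
        rw [Finset.mem_filter, Finset.mem_erase]
        exact ⟨fun h => h.2 ▸ self_mem_orb P S,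
          fun h => ⟨⟨ne_of_mem_orb hR.1 h, mem_univ _⟩, orb_eq_of_mem h⟩⟩
      rw [this, horb3 R hR.1]] at hsum
    rw [Finset.card_erase_of_mem (mem_univ _), Finset.card_univ, hn'] at hsum
    rw [hΩ]
    omega
  have hHfix : ∀ h ∈ H, h • P = P := fun h hh => Sylow.smul_eq_iff_mem_normalizer.2 hh
  let S : SubMulAction H (Finset (Sylow 3 G)) :=
    { carrier := ↑Ω
      smul_mem' := by
        rintro ⟨h, hh⟩ O hO
        rw [Finset.mem_coe, hΩ, Finset.mem_image] at hO ⊢
        obtain ⟨R, hR, rfl⟩ := hO
        refine ⟨h • R, Finset.mem_erase.2 ⟨fun e => (Finset.mem_erase.1 hR).1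
          (smul_left_cancel h (e.trans (hHfix h hh).symm)), mem_univ _⟩, ?_⟩
        exact (smul_orb (hHfix h hh)).symm }
  let φ : H →* Equiv.Perm S := MulAction.toPermHom H S
  haveI : Fintype S := Fintype.ofFinite _
  have hS7 : Fintype.card S = 7 := by
    rw [← hΩcard, ← Nat.card_eq_fintype_card]
    exact (Nat.card_eq_finsetCard Ω)
  have hker : ∀ c ∈ φ.ker, ∀ R, R ≠ P → (c : G) • R ∈ orb P R := by
    intro c hc R hR
    have hmem : orb P R ∈ Ω := Finset.mem_image_of_mem _ (Finset.mem_erase.2 ⟨hR, mem_univ _⟩)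
    have h1 := congrArg Subtype.val (DFunLike.congr_fun (MonoidHom.mem_ker.1 hc) ⟨orb P R, hmem⟩)
    have h2 : (c : G) • orb P R = orb P R := h1
    rw [← h2]
    exact Finset.smul_mem_smul_finset (self_mem_orb P R)
  set C := (centralizer ((P : Subgroup G) : Set G)).subgroupOf H with hC
  have hKC : φ.ker ⊓ C ≤ (P : Subgroup G).subgroupOf H := by
    rintro c ⟨hc, hcC⟩
    have hcC' : (c : G) ∈ centralizer ((P : Subgroup G) : Set G) := hcC
    have hc3 : (c : G) ^ 3 = 1 := by
      refine SylowTwoP.eq_one_of_forall_smul (p := 3)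
        (SylowTwoP.forall_mem_eq_one (p := 3) (by omega)) (by omega) fun R => ?_
      by_cases hR : R = P
      · rw [hR]; exact hHfix _ (pow_mem c.2 3)
      obtain ⟨a, ha, haR⟩ := mem_orb.1 (hker c hc R hR)
      have hcom : Commute a (c : G) := mem_centralizer_iff.1 hcC' a ha
      have hk : ∀ k : ℕ, (c : G) ^ k • R = a ^ k • R := by
        intro k
        induction k with
        | zero => simp
        | succ k ih =>
          rw [pow_succ, mul_smul, ← haR, ← mul_smul, ← (hcom.pow_right k).eq, mul_smul, ih,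
            ← mul_smul, ← pow_succ']
      have ha3 : a ^ 3 = 1 := by
        have := pow_card_eq_one' (x := (⟨a, ha⟩ : (P : Subgroup G)))
        rw [hP] at this
        simpa using congrArg Subtype.val this
      rw [hk, ha3, one_smul]
    rw [mem_subgroupOf]
    have hpg : IsPGroup 3 (zpowers (c : G)) := by
      obtain ⟨k, -, hk⟩ := (Nat.dvd_prime_pow Nat.prime_three).1
        (orderOf_dvd_of_pow_eq_one (by rw [pow_one]; exact hc3) : orderOf (c : G) ∣ 3 ^ 1)
      exact IsPGroup.of_card (n := k) (by rw [Nat.card_zpowers, hk])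
    have h4 : (c : G) ∈ zpowers (c : G) ⊓ normalizer ((P : Subgroup G) : Set G) :=
      ⟨mem_zpowers _, c.2⟩
    exact ((hpg.inf_normalizer_sylow P).le h4).2
  have hPK : (P : Subgroup G).subgroupOf H ≤ φ.ker := by
    intro c hc
    rw [mem_subgroupOf] at hc
    refine MonoidHom.mem_ker.2 (Equiv.ext fun ⟨O, hO⟩ => Subtype.ext ?_)
    obtain ⟨R, hR, rfl⟩ := Finset.mem_image.1 (show O ∈ Ω from hO)
    show (c : G) • orb P R = orb P R
    rw [smul_orb (smul_self_of_mem hc)]
    exact orb_eq_of_mem (mem_orb.2 ⟨c, hc, rfl⟩)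
  have hP3 : Nat.card ((P : Subgroup G).subgroupOf H) = 3 := by
    rw [Nat.card_congr (subgroupOfEquivOfLe hPH).toEquiv, hP]
  have hk36 : Nat.card φ.ker = 3 ∨ Nat.card φ.ker = 6 := by
    haveI : IsCyclic (P : Subgroup G) := isCyclic_of_prime_card (p := 3) hP
    have hd := SylowTwoP.card_relIndex_centralizer_dvd_totient (R := (P : Subgroup G)) inferInstance
    rw [hP, Nat.totient_prime Nat.prime_three] at hd
    have h1 : Nat.card (φ.ker ⊓ C : Subgroup H) ∣ 3 := (card_dvd_of_le hKC).trans (dvd_of_eq hP3)
    have h2 : C.relIndex φ.ker ∣ 2 :=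
      (relIndex_dvd_index_of_normal C φ.ker).trans hd
    have h3' : Nat.card (φ.ker ⊓ C : Subgroup H) * C.relIndex φ.ker = Nat.card φ.ker := by
      have := relIndex_mul_relIndex ⊥ (φ.ker ⊓ C) φ.ker bot_le inf_le_left
      rwa [relIndex_bot_left, relIndex_bot_left, inf_relIndex_left] at this
    have h4 : 3 ∣ Nat.card φ.ker := (dvd_of_eq hP3.symm).trans (card_dvd_of_le hPK)
    rw [← h3'] at h4 ⊢
    rcases (Nat.dvd_prime Nat.prime_three).1 h1 with e | e <;>
      rcases (Nat.dvd_prime Nat.prime_two).1 h2 with e' | e' <;> rw [e, e'] at h4 ⊢ <;>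
      omega
  have hmul := card_mul_index φ.ker
  rw [index_ker] at hmul
  set M := φ.range with hM
  have hdvd : Nat.card M ∣ 5040 := by
    have := card_subgroup_dvd_card M
    rw [Nat.card_perm, Nat.card_eq_fintype_card (α := S), hS7] at this
    simpa [Nat.factorial] using this
  have hM3 : ¬ 3 ∣ Nat.card M := by
    intro h
    apply h3
    rw [← hmul]
    rcases hk36 with e | e <;> rw [e]
    · exact mul_dvd_mul_left 3 h
    · exact Dvd.dvd.trans (by norm_num) (mul_dvd_mul_left 6 h)
  have h560 : Nat.card M ∣ 560 := by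
    have hc : (Nat.card M).Coprime 9 :=
      (Nat.Coprime.pow_right 2 ((Nat.prime_three.coprime_iff_not_dvd.2 hM3).symm) :
        (Nat.card M).Coprime (3 ^ 2))
    exact hc.dvd_of_dvd_mul_left (show Nat.card M ∣ 9 * 560 by simpa using hdvd)
  have key : ∀ m ∈ Nat.divisors 560,
      ((3 * m) % 11 = 1 → m = 4 ∨ m = 35 ∨ m = 70 ∨ m = 112) ∧
      ((6 * m) % 11 = 1 → m = 2 ∨ m = 35 ∨ m = 70 ∨ m = 112) := by decide +kernel
  obtain ⟨hkey3, hkey6⟩ := key _ (Nat.mem_divisors.2 ⟨h560, by norm_num⟩)
  rw [← hmul] at hmod h12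
  rcases hk36 with e | e <;> rw [e] at hmod h12
  · rcases hkey3 hmod with h | h | h | h
    · omega
    all_goals exact no_perm_seven hS7 M (by omega)
  · rcases hkey6 hmod with h | h | h | h
    · omega
    all_goals exact no_perm_seven hS7 M (by omega)

end Cfsg.Agent.GroupStructure3.TwentyTwo
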